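import Cfsg.Agent.H377.ToOmega

/-!
# Adjacency in the prime graphs of the orthogonal groups : weights (helper72)

`ee q r` is the order of `q` modulo `r`, `eta k = k` for odd `k` and `k / 2` for even `k`, `sg k = 1` for odd `k`, `-1` for
even `k`; `wO q r = 2` if `r = 2` or `r` divides `q`, and `eta (ee q r)` otherwise. All characteristics.

* `elt2_of_wO` : `wO q r + wO q s + 1 ≤ m` ⇒ both types of orthogonal groups of dimension `2 m` contain elements of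
  order `r s`;
* `elt2_of_ee` : the same for odd `r`, `s` prime to `q` with `ee q r = ee q s = k`, `eta k < m` or `eta k = m` and the sign
  is `sg k`;
* `plus_adj`, `plus_clq`, `minus_adj`, `minus_clq` : the simple groups `PΩ⁺`, `PΩ⁻`; `odd_adj`, `odd_clq` : `PΩ_{2m+1}(q)`.
-/

set_option autoImplicit false
set_option linter.unusedSectionVars false

namespace Cfsg.Agent.H72.AdjOrth

open Cfsg.Agent.H377

/-- the order of `q` modulo `r` -/
noncomputable def ee (q r : ℕ) : ℕ := orderOf (q : ZMod r)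

/-- `eta k` is `k` for odd `k` and `k / 2` for even `k` -/
def eta (k : ℕ) : ℕ := if Even k then k / 2 else k

/-- the sign of the torus of type `k` -/
def sg (k : ℕ) : ℤ := if Even k then -1 else 1

/-- the weight of a prime in the orthogonal groups over `F_q` -/
noncomputable def wO (q r : ℕ) : ℕ := if r = 2 ∨ r ∣ q then 2 else eta (ee q r)

theorem sg_pm (k : ℕ) : sg k = 1 ∨ sg k = -1 := by
  rw [sg]
  split_ifs
  · right; rfl
  · left; rfl

theorem eta_pos {k : ℕ} (hk : 1 ≤ k) : 1 ≤ eta k := by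
  rw [eta]
  split_ifs with h
  · obtain ⟨j, rfl⟩ := h
    omega
  · exact hk

section arith

variable {q : ℕ}

theorem ee_pos {r : ℕ} (hr : r.Prime) (h : ¬ r ∣ q) : 1 ≤ ee q r := by
  have : Fact r.Prime := ⟨hr⟩
  have h0 : (q : ZMod r) ≠ 0 := by
    intro h1
    exact h ((ZMod.natCast_eq_zero_iff q r).1 h1)
  have h1 : IsOfFinOrder (q : ZMod r) := by
    rw [← Units.val_mk0 h0, Units.isOfFinOrder_val]
    exact isOfFinOrder_of_finite _
  exact orderOf_pos_iff.2 h1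

theorem dvd_pow_ee {r : ℕ} (hq : 1 ≤ q) : r ∣ q ^ ee q r - 1 := by
  have h1 : (q : ZMod r) ^ ee q r = 1 := pow_orderOf_eq_one _
  rw [← ZMod.natCast_eq_zero_iff, Nat.cast_sub (Nat.one_le_pow _ _ hq)]
  push_cast
  rw [h1, sub_self]

theorem ee_dvd {r k : ℕ} (hq : 1 ≤ q) (h : r ∣ q ^ k - 1) : ee q r ∣ k := by
  apply orderOf_dvd_of_pow_eq_one
  rw [← ZMod.natCast_eq_zero_iff, Nat.cast_sub (Nat.one_le_pow _ _ hq)] at h
  push_cast at h
  exact sub_eq_zero.1 h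

/-- the number `q ^ k - 1` for odd `k`, `q ^ (k / 2) + 1` for even `k` -/
def tn (q k : ℕ) : ℕ := if Even k then q ^ (k / 2) + 1 else q ^ k - 1

theorem dvd_tn {r : ℕ} (hq : 1 ≤ q) (hr : r.Prime) (hrq : ¬ r ∣ q) : r ∣ tn q (ee q r) := by
  have h1 := dvd_pow_ee (r := r) hq
  rw [tn]
  split_ifs with h
  · obtain ⟨j, hj⟩ := h
    have hj0 : 1 ≤ j := by
      have := ee_pos hr hrq
      omega
    have h2 : q ^ ee q r - 1 = (q ^ j + 1) * (q ^ j - 1) := by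
      rw [hj, pow_add]
      have := Nat.mul_self_sub_mul_self_eq (q ^ j) 1
      rw [one_mul] at this
      exact this
    rw [h2] at h1
    rw [show ee q r / 2 = j by omega]
    rcases (Nat.Prime.dvd_mul hr).1 h1 with h3 | h3
    · exact h3
    · have h4 := Nat.le_of_dvd (by omega) (ee_dvd hq h3)
      omega
  · exact h1

end arith

section elts

variable {F : Type*} [Field F] [Finite F]

theorem card_pos' : 1 ≤ Nat.card F := Nat.card_pos

theorem elt_tn {k N : ℕ} (hk : 1 ≤ k) (hN : N ∣ tn (Nat.card F) k) : Elt F (eta k) (sg k) N := by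
  rw [tn] at hN
  rw [eta, sg]
  split_ifs at hN ⊢ with h
  · refine elt_tor_minus ?_ hN
    obtain ⟨j, rfl⟩ := h
    omega
  · exact elt_tor_plus hk hN

theorem elt_of_prime {r : ℕ} (hr : r.Prime) (hrq : ¬ r ∣ Nat.card F) :
    Elt F (eta (ee (Nat.card F) r)) (sg (ee (Nat.card F) r)) r :=
  elt_tn (ee_pos hr hrq) (dvd_tn card_pos' hr hrq)

theorem mul_pm {a b : ℤ} (ha : a = 1 ∨ a = -1) (hb : b = 1 ∨ b = -1) : a * b = 1 ∨ a * b = -1 := by
  rcases ha with rfl | rfl <;> rcases hb with rfl | rfl <;> simp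

theorem sq_pm {a : ℤ} (ha : a = 1 ∨ a = -1) : a * a = 1 := by
  rcases ha with rfl | rfl <;> simp

/-- adding a plane or more gives all signs -/
theorem elt_extend {a m : ℕ} {ε δ : ℤ} {N : ℕ} (h : Elt F a ε N) (hε : ε = 1 ∨ ε = -1) (hδ : δ = 1 ∨ δ = -1)
    (hm : a + 1 ≤ m) : Elt F m δ N := by
  have h1 := h.add (m := m - a) (by omega) (mul_pm hε hδ)
  rw [← mul_assoc, sq_pm hε, one_mul] at h1
  rwa [show a + (m - a) = m by omega] at h1

theorem elt_blk {a b m : ℕ} {ε ε' δ : ℤ} {r s : ℕ} (h : Elt F a ε r) (h' : Elt F b ε' s) (hε : ε = 1 ∨ ε = -1)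
    (hε' : ε' = 1 ∨ ε' = -1) (hδ : δ = 1 ∨ δ = -1) (hm : a + b + 1 ≤ m) (hco : Nat.Coprime r s) :
    Elt F m δ (r * s) := by
  have h1 := h.prod h'
  rw [hco.lcm_eq_mul] at h1
  exact elt_extend h1 (mul_pm hε hε') hδ hm

/-- every odd prime has an element in a block of size the weight -/
theorem exists_elt_wO {r : ℕ} (hr : r.Prime) (hr2 : r ≠ 2) :
    ∃ ε : ℤ, (ε = 1 ∨ ε = -1) ∧ Elt F (wO (Nat.card F) r) ε r := by
  rw [wO]
  by_cases h : r ∣ Nat.card F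
  · rw [if_pos (Or.inr h)]
    obtain ⟨p, hp⟩ := CharP.exists F
    have hpp : p.Prime := CharP.char_is_prime F p
    have : Fact p.Prime := ⟨hpp⟩
    have hf := Fintype.ofFinite F
    obtain ⟨n, -, hn⟩ := FiniteField.card F p
    rw [Nat.card_eq_fintype_card, hn] at h
    have h1 : r = p := (Nat.prime_dvd_prime_iff_eq hr hpp).1 (hr.dvd_of_dvd_pow h)
    rw [h1]
    exact ⟨1, Or.inl rfl, elt_char hpp le_rfl⟩
  · rw [if_neg (by rw [not_or]; exact ⟨hr2, h⟩)]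
    exact ⟨_, sg_pm _, elt_of_prime hr h⟩

theorem wO_pos {r : ℕ} (hr : r.Prime) : 1 ≤ wO (Nat.card F) r := by
  rw [wO]
  split_ifs with h
  · omega
  · rw [not_or] at h
    exact eta_pos (ee_pos hr h.2)

theorem elt2_two {a m : ℕ} {ε δ : ℤ} {s : ℕ} (hs : Odd s) (h : Elt F a ε s) (ha : 1 ≤ a) (hε : ε = 1 ∨ ε = -1)
    (hδ : δ = 1 ∨ δ = -1) (hm : a + 2 ≤ m) : Elt2 F m δ (2 * s) := by
  have h1 := Elt.prod_two ha hs h (elt_four (F := F) (n := m - a) (by omega) (mul_pm hε hδ)) ⟨2, rfl⟩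
  rw [← mul_assoc, sq_pm hε, one_mul, show a + (m - a) = m by omega] at h1
  have h2 : Nat.lcm s (4 / 2) = 2 * s := by
    rw [show 4 / 2 = 2 from rfl, Nat.Coprime.lcm_eq_mul (by exact Nat.coprime_two_right.2 hs), mul_comm]
  rwa [h2] at h1

/-- **Block diagonal elements.** -/
theorem elt2_of_wO {m : ℕ} {δ : ℤ} (hδ : δ = 1 ∨ δ = -1) {r s : ℕ} (hr : r.Prime) (hs : s.Prime) (hrs : r ≠ s)
    (h : wO (Nat.card F) r + wO (Nat.card F) s + 1 ≤ m) : Elt2 F m δ (r * s) := by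
  have hco : Nat.Coprime r s := (Nat.coprime_primes hr hs).2 hrs
  by_cases hr2 : r = 2
  · subst hr2
    have hs2 : s ≠ 2 := Ne.symm hrs
    obtain ⟨ε, hε, h1⟩ := exists_elt_wO (F := F) hs hs2
    have h2 : wO (Nat.card F) 2 = 2 := if_pos (Or.inl rfl)
    exact elt2_two (hs.odd_of_ne_two hs2) h1 (wO_pos hs) hε hδ (by omega)
  · by_cases hs2 : s = 2
    · subst hs2
      obtain ⟨ε, hε, h1⟩ := exists_elt_wO (F := F) hr hr2
      have h2 : wO (Nat.card F) 2 = 2 := if_pos (Or.inl rfl)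
      rw [mul_comm]
      exact elt2_two (hr.odd_of_ne_two hr2) h1 (wO_pos hr) hε hδ (by omega)
    · obtain ⟨ε, hε, h1⟩ := exists_elt_wO (F := F) hr hr2
      obtain ⟨ε', hε', h2⟩ := exists_elt_wO (F := F) hs hs2
      exact Elt.two (by omega) ((hr.odd_of_ne_two hr2).mul (hs.odd_of_ne_two hs2)) (elt_blk h1 h2 hε hε' hδ h hco)

/-- **Elements of tori.** -/
theorem elt_of_ee {m : ℕ} {δ : ℤ} (hδ : δ = 1 ∨ δ = -1) {r s : ℕ} (hr : r.Prime) (hs : s.Prime) (hrs : r ≠ s)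
    (hrq : ¬ r ∣ Nat.card F) (hsq : ¬ s ∣ Nat.card F) (h : ee (Nat.card F) r = ee (Nat.card F) s)
    (hm : eta (ee (Nat.card F) r) < m ∨ (eta (ee (Nat.card F) r) = m ∧ sg (ee (Nat.card F) r) = δ)) :
    Elt F m δ (r * s) := by
  have hco : Nat.Coprime r s := (Nat.coprime_primes hr hs).2 hrs
  have h1 := dvd_tn (q := Nat.card F) card_pos' hr hrq
  have h2 := dvd_tn (q := Nat.card F) card_pos' hs hsq
  rw [← h] at h2
  have h3 := elt_tn (ee_pos hr hrq) (hco.mul_dvd_of_dvd_of_dvd h1 h2)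
  rcases hm with hm | ⟨hm1, hm2⟩
  · exact elt_extend h3 (sg_pm _) hδ hm
  · rw [hm1, hm2] at h3
    exact h3

theorem elt2_of_ee {m : ℕ} {δ : ℤ} (hδ : δ = 1 ∨ δ = -1) (hm1 : 1 ≤ m) {r s : ℕ} (hr : r.Prime) (hs : s.Prime)
    (hr2 : r ≠ 2) (hs2 : s ≠ 2) (hrs : r ≠ s)
    (hrq : ¬ r ∣ Nat.card F) (hsq : ¬ s ∣ Nat.card F) (h : ee (Nat.card F) r = ee (Nat.card F) s)
    (hm : eta (ee (Nat.card F) r) < m ∨ (eta (ee (Nat.card F) r) = m ∧ sg (ee (Nat.card F) r) = δ)) :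
    Elt2 F m δ (r * s) :=
  Elt.two hm1 ((hr.odd_of_ne_two hr2).mul (hs.odd_of_ne_two hs2)) (elt_of_ee hδ hr hs hrs hrq hsq h hm)

end elts

section groups

variable {F : Type*} [Field F] [Finite F] {m : ℕ}

/-- **`PΩ⁺_{2m}(q)` : block diagonal adjacency** -/
theorem plus_adj (hm : 4 ≤ m) {r s : ℕ} (hr : r.Prime) (hs : s.Prime) (hrs : r ≠ s)
    (h : wO (Nat.card F) r + wO (Nat.card F) s + 1 ≤ m) :
    ∃ g : Cfsg.POmega F (Cfsg.quadFormPlus m F), orderOf g = r * s :=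
  (elt2_of_wO (Or.inl rfl) hr hs hrs h).plus hm

/-- **`PΩ⁺_{2m}(q)` : primes of the same class** -/
theorem plus_clq (hm : 4 ≤ m) {r s : ℕ} (hr : r.Prime) (hs : s.Prime) (hr2 : r ≠ 2) (hs2 : s ≠ 2) (hrs : r ≠ s)
    (hrq : ¬ r ∣ Nat.card F) (hsq : ¬ s ∣ Nat.card F) (h : ee (Nat.card F) r = ee (Nat.card F) s)
    (hk : eta (ee (Nat.card F) r) < m ∨ (eta (ee (Nat.card F) r) = m ∧ sg (ee (Nat.card F) r) = 1)) :
    ∃ g : Cfsg.POmega F (Cfsg.quadFormPlus m F), orderOf g = r * s :=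
  (elt2_of_ee (Or.inl rfl) (by omega) hr hs hr2 hs2 hrs hrq hsq h hk).plus hm

/-- **`PΩ⁻_{2m}(q)` : block diagonal adjacency** -/
theorem minus_adj (hm : 4 ≤ m) {a b : F} (hab : ∀ z₁ z₂ : F, z₁ ^ 2 + a * z₁ * z₂ + b * z₂ ^ 2 = 0 → z₁ = 0 ∧ z₂ = 0)
    {r s : ℕ} (hr : r.Prime) (hs : s.Prime) (hrs : r ≠ s)
    (h : wO (Nat.card F) r + wO (Nat.card F) s + 1 ≤ m) :
    ∃ g : Cfsg.POmega F (Cfsg.quadFormMinus (m - 1) F a b), orderOf g = r * s :=
  (elt2_of_wO (Or.inr rfl) hr hs hrs h).minus hm hab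

/-- **`PΩ⁻_{2m}(q)` : primes of the same class** -/
theorem minus_clq (hm : 4 ≤ m) {a b : F} (hab : ∀ z₁ z₂ : F, z₁ ^ 2 + a * z₁ * z₂ + b * z₂ ^ 2 = 0 → z₁ = 0 ∧ z₂ = 0)
    {r s : ℕ} (hr : r.Prime) (hs : s.Prime) (hr2 : r ≠ 2) (hs2 : s ≠ 2) (hrs : r ≠ s)
    (hrq : ¬ r ∣ Nat.card F) (hsq : ¬ s ∣ Nat.card F) (h : ee (Nat.card F) r = ee (Nat.card F) s)
    (hk : eta (ee (Nat.card F) r) < m ∨ (eta (ee (Nat.card F) r) = m ∧ sg (ee (Nat.card F) r) = -1)) :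
    ∃ g : Cfsg.POmega F (Cfsg.quadFormMinus (m - 1) F a b), orderOf g = r * s :=
  (elt2_of_ee (Or.inr rfl) (by omega) hr hs hr2 hs2 hrs hrq hsq h hk).minus hm hab

/-- a product of odd blocks of total size at most `m` -/
theorem exists_elt_le {a b : ℕ} {ε ε' : ℤ} {r s : ℕ} (h : Elt F a ε r) (h' : Elt F b ε' s) (hε : ε = 1 ∨ ε = -1)
    (hε' : ε' = 1 ∨ ε' = -1) (hm : a + b ≤ m) : ∃ δ : ℤ, Elt F m δ (Nat.lcm r s) := by
  have h1 := h.prod h'
  rcases Nat.eq_or_lt_of_le hm with h2 | h2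
  · rw [h2] at h1
    exact ⟨_, h1⟩
  · exact ⟨1, elt_extend h1 (mul_pm hε hε') (Or.inl rfl) h2⟩

/-- **`PΩ_{2m+1}(q)`, `q` odd : block diagonal adjacency** -/
theorem odd_adj (h2 : (2 : F) ≠ 0) (hm : 3 ≤ m) {r s : ℕ} (hr : r.Prime) (hs : s.Prime) (hrs : r ≠ s)
    (h : wO (Nat.card F) r + wO (Nat.card F) s ≤ m) :
    ∃ g : Cfsg.POmega F (Cfsg.quadFormOdd m F), orderOf g = r * s := by
  have hco : Nat.Coprime r s := (Nat.coprime_primes hr hs).2 hrs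
  have key : ∀ u : ℕ, u.Prime → u ≠ 2 → wO (Nat.card F) u + 2 ≤ m →
      ∃ g : Cfsg.POmega F (Cfsg.quadFormOdd m F), orderOf g = 2 * u := by
    intro u hu hu2 hum
    obtain ⟨ε, hε, h1⟩ := exists_elt_wO (F := F) hu hu2
    obtain ⟨δ, h3⟩ := exists_elt_le (m := m) h1 (elt_four (F := F) (n := 2) le_rfl (Or.inl rfl)) hε (Or.inl rfl) hum
    refine exists_odd_of_elt h2 hm h3 fun j => ?_
    have huo : Nat.Coprime u 2 := Nat.coprime_two_right.2 (hu.odd_of_ne_two hu2)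
    have h4 : Nat.lcm u 4 = 2 * (2 * u) := by
      rw [Nat.Coprime.lcm_eq_mul (by exact (Nat.Coprime.pow_right 2 huo))]
      ring
    rw [h4]
    exact Nat.mul_dvd_mul_iff_left (by norm_num)
  by_cases hr2 : r = 2
  · subst hr2
    have h3 : wO (Nat.card F) 2 = 2 := if_pos (Or.inl rfl)
    exact key s hs (Ne.symm hrs) (by omega)
  · by_cases hs2 : s = 2
    · subst hs2
      have h3 : wO (Nat.card F) 2 = 2 := if_pos (Or.inl rfl)
      rw [mul_comm]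
      exact key r hr hr2 (by omega)
    · obtain ⟨ε, hε, h1⟩ := exists_elt_wO (F := F) hr hr2
      obtain ⟨ε', hε', h3⟩ := exists_elt_wO (F := F) hs hs2
      obtain ⟨δ, h4⟩ := exists_elt_le (m := m) h1 h3 hε hε' h
      rw [hco.lcm_eq_mul] at h4
      refine exists_odd_of_elt h2 hm h4 fun j => ?_
      have ho : Nat.Coprime (r * s) 2 :=
        Nat.coprime_two_right.2 ((hr.odd_of_ne_two hr2).mul (hs.odd_of_ne_two hs2))
      exact ⟨fun h5 => ho.dvd_of_dvd_mul_left h5, fun h5 => Dvd.dvd.mul_left h5 2⟩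

/-- **`PΩ_{2m+1}(q)`, `q` odd : primes of the same class** -/
theorem odd_clq (h2 : (2 : F) ≠ 0) (hm : 3 ≤ m) {r s : ℕ} (hr : r.Prime) (hs : s.Prime) (hr2 : r ≠ 2) (hs2 : s ≠ 2)
    (hrs : r ≠ s) (hrq : ¬ r ∣ Nat.card F) (hsq : ¬ s ∣ Nat.card F) (h : ee (Nat.card F) r = ee (Nat.card F) s)
    (hk : eta (ee (Nat.card F) r) ≤ m) :
    ∃ g : Cfsg.POmega F (Cfsg.quadFormOdd m F), orderOf g = r * s := by
  have ho : Nat.Coprime (r * s) 2 :=
    Nat.coprime_two_right.2 ((hr.odd_of_ne_two hr2).mul (hs.odd_of_ne_two hs2))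
  obtain ⟨δ, h3⟩ : ∃ δ : ℤ, Elt F m δ (r * s) := by
    rcases Nat.eq_or_lt_of_le hk with h4 | h4
    · exact ⟨_, elt_of_ee (sg_pm _) hr hs hrs hrq hsq h (Or.inr ⟨h4, rfl⟩)⟩
    · exact ⟨1, elt_of_ee (Or.inl rfl) hr hs hrs hrq hsq h (Or.inl h4)⟩
  exact exists_odd_of_elt h2 hm h3 fun j =>
    ⟨fun h5 => ho.dvd_of_dvd_mul_left h5, fun h5 => Dvd.dvd.mul_left h5 2⟩

end groups

end Cfsg.Agent.H72.AdjOrth
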