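import Cfsg.Agent.H72.AdjPSU
import Cfsg.Agent.H72.AdjOrth

/-!
# The prime graph of `PSL_n(q)`, `n ≥ 3` : weights and cocliques (helper72)

`wL q r` is `2` if `r` divides `q (q - 1)` and the order `ee q r` of `q` modulo `r` otherwise.

* `adj_of_wL` : `wL q r + wL q s ≤ n` ⇒ `PSL_n(q)` has an element of order `r s`;
* `adj_of_ee` : `ee q r = ee q s ≤ n` ⇒ the same;
* `card_coclique` : a coclique containing `x` has at most `wL q x + 2` members, at most `wL q x + 1` if
  `wL q x + 2 ≤ n`.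
-/

set_option autoImplicit false
set_option linter.unusedSectionVars false

namespace Cfsg.Agent.H72.AdjPSL

open Matrix Cfsg.Agent.H72.AdjOrth

variable {F : Type*} [Field F] [Fintype F] {n : ℕ}

/-- A matrix of size `a`, determinant one and order `d`. -/
def HasBlock (F : Type*) [Field F] (a d : ℕ) : Prop :=
  ∃ A : Matrix (Fin a) (Fin a) F, A.det = 1 ∧ A ^ d = 1 ∧ ∀ k : ℕ, A ^ k = 1 → d ∣ k

theorem hasBlock_singer {a d : ℕ} (ha : a ≠ 0) (hd : d ∣ Fintype.card F ^ a - 1)
    (hco : Nat.Coprime d (Fintype.card F - 1)) : HasBlock F a d := by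
  obtain ⟨A, hA⟩ := AdjPSU.exists_singer F ha
  obtain ⟨c, hc⟩ := hd
  have hpos : 0 < Fintype.card F ^ a - 1 := by
    have h1 : 1 < Fintype.card F ^ a := Nat.one_lt_pow ha Fintype.one_lt_card
    omega
  have hc0 : 0 < c := by
    rcases Nat.eq_zero_or_pos c with h | h
    · rw [h, mul_zero] at hc
      omega
    · exact h
  have h1 : (A ^ c) ^ d = 1 := by rw [← pow_mul, mul_comm, ← hc, ← hA, pow_orderOf_eq_one]
  refine ⟨((A ^ c : (Matrix (Fin a) (Fin a) F)ˣ) : Matrix (Fin a) (Fin a) F), ?_, ?_, ?_⟩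
  · have h2 : (((A ^ c : (Matrix (Fin a) (Fin a) F)ˣ) : Matrix (Fin a) (Fin a) F)).det ^ d = 1 := by
      rw [← Matrix.det_pow, ← Units.val_pow_eq_pow_val, h1, Units.val_one, Matrix.det_one]
    have h3 : (((A ^ c : (Matrix (Fin a) (Fin a) F)ˣ) : Matrix (Fin a) (Fin a) F)).det ^ (Fintype.card F - 1) = 1 := by
      apply FiniteField.pow_card_sub_one_eq_one
      exact ((Matrix.isUnit_iff_isUnit_det _).1 (Units.isUnit _)).ne_zero
    have h4 : orderOf (((A ^ c : (Matrix (Fin a) (Fin a) F)ˣ) : Matrix (Fin a) (Fin a) F)).det ∣ 1 := by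
      rw [← hco]
      exact Nat.dvd_gcd (orderOf_dvd_of_pow_eq_one h2) (orderOf_dvd_of_pow_eq_one h3)
    exact orderOf_eq_one_iff.1 (Nat.dvd_one.1 h4)
  · rw [← Units.val_pow_eq_pow_val, h1, Units.val_one]
  · intro k hk
    have h2 : A ^ (c * k) = 1 := by
      rw [pow_mul]
      apply Units.ext
      rw [Units.val_pow_eq_pow_val, hk, Units.val_one]
    have h3 := orderOf_dvd_of_pow_eq_one h2
    rw [hA, hc, mul_comm d c] at h3
    exact Nat.dvd_of_mul_dvd_mul_left hc0 h3

/-- The divisors of `q - 1` in dimension two. -/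
theorem hasBlock_two {d : ℕ} (hd : d ∣ Fintype.card F - 1) : HasBlock F 2 d := by
  classical
  obtain ⟨y, hy⟩ := IsCyclic.exists_generator (α := Fˣ)
  have hordy : orderOf y = Fintype.card F - 1 := by
    rw [orderOf_eq_card_of_forall_mem_zpowers hy, Nat.card_units, Nat.card_eq_fintype_card]
  have hq1 := Fintype.one_lt_card (α := F)
  obtain ⟨c, hc⟩ := hd
  have hc0 : c ≠ 0 := by rintro rfl; omega
  obtain ⟨u, hu⟩ : ∃ u, u = y ^ c := ⟨_, rfl⟩
  have hordu : orderOf u = d := by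
    rw [hu, orderOf_pow' y hc0, hordy, hc, Nat.gcd_mul_left_left, Nat.mul_div_cancel _ (Nat.pos_of_ne_zero hc0)]
  have hpow : ∀ k : ℕ, (!![(u : F), 0; 0, ((u⁻¹ : Fˣ) : F)] : Matrix (Fin 2) (Fin 2) F) ^ k =
      !![((u ^ k : Fˣ) : F), 0; 0, (((u ^ k)⁻¹ : Fˣ) : F)] := by
    intro k
    induction k with
    | zero => simp [Matrix.one_fin_two]
    | succ k ih =>
      rw [pow_succ, ih, pow_succ, _root_.mul_inv_rev, Matrix.mul_fin_two, Units.val_mul, Units.val_mul]
      simp only [mul_zero, zero_mul, add_zero, zero_add]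
      rw [mul_comm ((u⁻¹ : Fˣ) : F)]
  refine ⟨!![(u : F), 0; 0, ((u⁻¹ : Fˣ) : F)], ?_, ?_, ?_⟩
  · rw [Matrix.det_fin_two_of, ← Units.val_mul, mul_inv_cancel, Units.val_one, mul_zero, sub_zero]
  · rw [hpow, ← hordu, pow_orderOf_eq_one, inv_one, Units.val_one, Matrix.one_fin_two]
  · intro k hk
    rw [hpow, Matrix.one_fin_two] at hk
    have h1 := congrFun (congrFun hk 0) 0
    rw [← hordu]
    apply orderOf_dvd_of_pow_eq_one
    apply Units.ext
    simpa using h1

/-- The characteristic in dimension two. -/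
theorem hasBlock_char (p : ℕ) [CharP F p] : HasBlock F 2 p := by
  have hpow : ∀ k : ℕ, (!![1, 1; 0, 1] : Matrix (Fin 2) (Fin 2) F) ^ k = !![1, (k : F); 0, 1] := by
    intro k
    induction k with
    | zero => simp [Matrix.one_fin_two]
    | succ k ih =>
      rw [pow_succ, ih, Matrix.mul_fin_two]
      simp [add_comm]
  refine ⟨!![1, 1; 0, 1], ?_, ?_, ?_⟩
  · rw [Matrix.det_fin_two_of]
    ring
  · rw [hpow, CharP.cast_eq_zero, Matrix.one_fin_two]
  · intro k hk
    rw [hpow, Matrix.one_fin_two] at hk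
    have h1 := congrFun (congrFun hk 0) 1
    have h2 : (k : F) = 0 := by simpa using h1
    exact (CharP.cast_eq_zero_iff F p k).1 h2

theorem exists_order (A : Matrix (Fin n) (Fin n) F) (hdet : A.det = 1) {N : ℕ}
    (hN : ∀ (k : ℕ) (c : F), A ^ k = c • 1 → N ∣ k) (s : ℕ) (hs : s ∣ N) :
    ∃ z : Matrix.ProjectiveSpecialLinearGroup (Fin n) F, orderOf z = s := by
  let g : Matrix.SpecialLinearGroup (Fin n) F := ⟨A, hdet⟩
  set z : Matrix.ProjectiveSpecialLinearGroup (Fin n) F := QuotientGroup.mk g with hz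
  have h1 : N ∣ orderOf z := by
    have h2 : z ^ orderOf z = 1 := pow_orderOf_eq_one z
    have h3 : g ^ orderOf z ∈ Subgroup.center (Matrix.SpecialLinearGroup (Fin n) F) := by
      rw [← QuotientGroup.eq_one_iff, QuotientGroup.mk_pow]
      exact h2
    obtain ⟨c, -, hc⟩ := Matrix.SpecialLinearGroup.mem_center_iff.1 h3
    apply hN (orderOf z) c
    have h4 : ((g ^ orderOf z : Matrix.SpecialLinearGroup (Fin n) F) : Matrix (Fin n) (Fin n) F) = A ^ orderOf z :=
      Matrix.SpecialLinearGroup.coe_pow g _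
    rw [← h4, ← hc, Matrix.scalar_apply, ← Matrix.smul_one_eq_diagonal]
  have : Finite (Matrix.ProjectiveSpecialLinearGroup (Fin n) F) := inferInstance
  have h2 : orderOf z ≠ 0 := (orderOf_pos z).ne'
  exact ⟨z ^ (orderOf z / s), orderOf_pow_orderOf_div h2 (hs.trans h1)⟩

theorem exists_order_of_index {ι : Type*} [Fintype ι] [DecidableEq ι]
    (e : Fin n ≃ ι) {A : Matrix ι ι F} (hdet : A.det = 1) {N : ℕ}
    (hN : ∀ (k : ℕ) (c : F), A ^ k = c • 1 → N ∣ k) : ∀ s, s ∣ N →
      ∃ z : Matrix.ProjectiveSpecialLinearGroup (Fin n) F, orderOf z = s := by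
  refine exists_order (A.submatrix e e) ?_ ?_
  · rw [Matrix.det_submatrix_equiv_self, hdet]
  · intro k c hk
    apply hN k c
    have hs : ∀ k : ℕ, (A.submatrix e e) ^ k = (A ^ k).submatrix e e := by
      intro k
      induction k with
      | zero => rw [pow_zero, pow_zero, Matrix.submatrix_one_equiv]
      | succ k ih => rw [pow_succ, ih, Matrix.submatrix_mul_equiv, ← pow_succ]
    rw [hs] at hk
    have h4 := congrArg (fun M : Matrix (Fin n) (Fin n) F => M.submatrix e.symm e.symm) hk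
    simp only [Matrix.submatrix_submatrix, Equiv.self_comp_symm, Matrix.submatrix_id_id] at h4
    rw [h4]
    change c • ((1 : Matrix (Fin n) (Fin n) F).submatrix e.symm e.symm) = c • 1
    rw [Matrix.submatrix_one_equiv]

/-- **Two blocks of coprime orders.** -/
theorem exists_order_of_blocks {a b r s : ℕ} (h1 : HasBlock F a r)
    (h2 : HasBlock F b s) (ha : 1 ≤ a) (hb : 1 ≤ b) (hab : a + b ≤ n) (hco : Nat.Coprime r s) :
    ∀ t, t ∣ r * s → ∃ z : Matrix.ProjectiveSpecialLinearGroup (Fin n) F, orderOf z = t := by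
  obtain ⟨A, hAd, hA1, hA2⟩ := h1
  obtain ⟨B, hBd, hB1, hB2⟩ := h2
  obtain ⟨c, hc⟩ : ∃ c, n = a + (b + c) := ⟨n - a - b, by omega⟩
  let e : Fin n ≃ Fin a ⊕ (Fin b ⊕ Fin c) :=
    ((finCongr hc).trans finSumFinEquiv.symm).trans (Equiv.sumCongr (Equiv.refl _) finSumFinEquiv.symm)
  refine exists_order_of_index e (A := fromBlocks A 0 0 (fromBlocks B 0 0 1)) ?_ ?_
  · rw [Matrix.det_fromBlocks_zero₂₁, Matrix.det_fromBlocks_zero₂₁, hAd, hBd, Matrix.det_one, one_mul, one_mul]
  · intro k t hk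
    rw [AdjPSU.fromBlocks_pow, AdjPSU.fromBlocks_pow] at hk
    obtain ⟨h3, h4⟩ := AdjPSU.fromBlocks_eq_smul hk
    obtain ⟨h5, -⟩ := AdjPSU.fromBlocks_eq_smul h4
    have h6 := AdjPSU.pow_eq_one_of_scalar ha hA1 h3
    have h7 := AdjPSU.pow_eq_one_of_scalar hb hB1 h5
    have h8 : t = 1 := by
      have h9 : orderOf t ∣ 1 := by
        rw [← hco]
        exact Nat.dvd_gcd (orderOf_dvd_of_pow_eq_one h6) (orderOf_dvd_of_pow_eq_one h7)
      exact orderOf_eq_one_iff.1 (Nat.dvd_one.1 h9)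
    rw [h8, one_smul] at h3 h5
    exact hco.mul_dvd_of_dvd_of_dvd (hA2 _ h3) (hB2 _ h5)

/-- **One block of order prime to `q - 1`.** -/
theorem exists_order_of_block {a r : ℕ} (h1 : HasBlock F a r)
    (ha : 1 ≤ a) (han : a ≤ n) (hco : Nat.Coprime r (Fintype.card F - 1)) :
    ∀ t, t ∣ r → ∃ z : Matrix.ProjectiveSpecialLinearGroup (Fin n) F, orderOf z = t := by
  obtain ⟨A, hAd, hA1, hA2⟩ := h1
  obtain ⟨c, hc⟩ : ∃ c, n = a + c := ⟨n - a, by omega⟩
  let e : Fin n ≃ Fin a ⊕ Fin c := (finCongr hc).trans finSumFinEquiv.symm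
  refine exists_order_of_index e (A := fromBlocks A 0 0 1) ?_ ?_
  · rw [Matrix.det_fromBlocks_zero₂₁, hAd, Matrix.det_one, one_mul]
  · intro k t hk
    rw [AdjPSU.fromBlocks_pow] at hk
    obtain ⟨h3, -⟩ := AdjPSU.fromBlocks_eq_smul hk
    have h6 := AdjPSU.pow_eq_one_of_scalar ha hA1 h3
    rcases eq_or_ne t 0 with h0 | h0
    · rw [h0] at h6
      rcases Nat.eq_zero_or_pos r with hr | hr
      · rw [hr, Nat.coprime_zero_left] at hco
        have h7 : (A ^ k).det = 1 := by rw [Matrix.det_pow, hAd, one_pow]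
        rw [h3, h0, zero_smul] at h7
        have : Nonempty (Fin a) := ⟨⟨0, ha⟩⟩
        rw [Matrix.det_zero] at h7
        exact absurd h7 zero_ne_one
      · rw [zero_pow (by omega)] at h6
        exact absurd h6 zero_ne_one
    · have h7 : t ^ (Fintype.card F - 1) = 1 := FiniteField.pow_card_sub_one_eq_one t h0
      have h8 : t = 1 := by
        have h9 : orderOf t ∣ 1 := by
          rw [← hco]
          exact Nat.dvd_gcd (orderOf_dvd_of_pow_eq_one h6) (orderOf_dvd_of_pow_eq_one h7)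
        exact orderOf_eq_one_iff.1 (Nat.dvd_one.1 h9)
      rw [h8, one_smul] at h3
      exact hA2 _ h3

/-- **One small block.** -/
theorem exists_order_of_block_lt {a r : ℕ} (h1 : HasBlock F a r)
    (han : a < n) : ∀ t, t ∣ r → ∃ z : Matrix.ProjectiveSpecialLinearGroup (Fin n) F, orderOf z = t := by
  obtain ⟨A, hAd, hA1, hA2⟩ := h1
  obtain ⟨c, hc⟩ : ∃ c, n = a + c := ⟨n - a, by omega⟩
  have hc0 : 0 < c := by omega
  let e : Fin n ≃ Fin a ⊕ Fin c := (finCongr hc).trans finSumFinEquiv.symm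
  refine exists_order_of_index e (A := fromBlocks A 0 0 1) ?_ ?_
  · rw [Matrix.det_fromBlocks_zero₂₁, hAd, Matrix.det_one, one_mul]
  · intro k t hk
    rw [AdjPSU.fromBlocks_pow, one_pow] at hk
    obtain ⟨h3, h4⟩ := AdjPSU.fromBlocks_eq_smul hk
    have h8 : t = 1 := by
      have h5 := congrFun (congrFun h4 ⟨0, hc0⟩) ⟨0, hc0⟩
      simpa using h5.symm
    rw [h8, one_smul] at h3
    exact hA2 _ h3

/-- the weight of a prime in `PSL_n(q)` -/
noncomputable def wL (q r : ℕ) : ℕ := if r ∣ q ∨ r ∣ q - 1 then 2 else ee q r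

theorem hasBlock_wL {r : ℕ} (hr : r.Prime) : HasBlock F (wL (Fintype.card F) r) r := by
  have hq1 := Fintype.one_lt_card (α := F)
  rw [wL]
  split_ifs with h
  · rcases h with h | h
    · obtain ⟨p, hp⟩ := CharP.exists F
      have hpp : p.Prime := CharP.char_is_prime F p
      obtain ⟨k, -, hk⟩ := FiniteField.card F p
      rw [hk] at h
      have h1 : r = p := (Nat.prime_dvd_prime_iff_eq hr hpp).1 (hr.dvd_of_dvd_pow h)
      rw [h1]
      exact hasBlock_char p
    · exact hasBlock_two h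
  · rw [not_or] at h
    exact hasBlock_singer (by have := ee_pos hr h.1; omega) (dvd_pow_ee (by omega))
      ((Nat.Prime.coprime_iff_not_dvd hr).2 h.2)

theorem wL_pos {q r : ℕ} (hr : r.Prime) : 1 ≤ wL q r := by
  rw [wL]
  split_ifs with h
  · omega
  · rw [not_or] at h
    exact ee_pos hr h.1

/-- **Block diagonal adjacency.** -/
theorem adj_of_wL {r s : ℕ} (hr : r.Prime) (hs : s.Prime) (hrs : r ≠ s)
    (h : wL (Fintype.card F) r + wL (Fintype.card F) s ≤ n) :
    ∃ z : Matrix.ProjectiveSpecialLinearGroup (Fin n) F, orderOf z = r * s :=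
  exists_order_of_blocks (hasBlock_wL hr) (hasBlock_wL hs) (wL_pos hr) (wL_pos hs) h
    ((Nat.coprime_primes hr hs).2 hrs) _ dvd_rfl

theorem ee_eq_one_iff {q r : ℕ} (hq : 1 ≤ q) : ee q r = 1 ↔ r ∣ q - 1 := by
  rw [ee, orderOf_eq_one_iff, ← ZMod.natCast_eq_zero_iff, Nat.cast_sub hq, sub_eq_zero, Nat.cast_one]

/-- **Adjacency of primes of the same class.** -/
theorem adj_of_ee (hn : 3 ≤ n) {r s : ℕ} (hr : r.Prime) (hs : s.Prime) (hrs : r ≠ s)
    (hrq : ¬ r ∣ Fintype.card F) (h : ee (Fintype.card F) r = ee (Fintype.card F) s)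
    (hle : ee (Fintype.card F) r ≤ n) :
    ∃ z : Matrix.ProjectiveSpecialLinearGroup (Fin n) F, orderOf z = r * s := by
  have hq1 := Fintype.one_lt_card (α := F)
  have hco : Nat.Coprime r s := (Nat.coprime_primes hr hs).2 hrs
  by_cases h1 : ee (Fintype.card F) r = 1
  · have h2 := (ee_eq_one_iff (by omega)).1 h1
    have h3 := (ee_eq_one_iff (by omega)).1 (h.symm.trans h1)
    exact exists_order_of_block_lt (hasBlock_two (hco.mul_dvd_of_dvd_of_dvd h2 h3)) (by omega) _ dvd_rfl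
  · have h2 : ¬ r ∣ Fintype.card F - 1 := fun h2 => h1 ((ee_eq_one_iff (by omega)).2 h2)
    have h3 : ¬ s ∣ Fintype.card F - 1 := fun h3 => h1 (h.trans ((ee_eq_one_iff (by omega)).2 h3))
    have hco1 : Nat.Coprime (r * s) (Fintype.card F - 1) :=
      Nat.Coprime.mul_left ((Nat.Prime.coprime_iff_not_dvd hr).2 h2) ((Nat.Prime.coprime_iff_not_dvd hs).2 h3)
    have h4 := dvd_pow_ee (q := Fintype.card F) (r := r) (by omega)
    have h5 := dvd_pow_ee (q := Fintype.card F) (r := s) (by omega)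
    rw [← h] at h5
    have h6 := ee_pos hr hrq
    exact exists_order_of_block (hasBlock_singer (by omega) (hco.mul_dvd_of_dvd_of_dvd h4 h5) hco1) h6 hle hco1
      _ dvd_rfl

/-- the primes of `|PSL_n(q)|` other than the characteristic have `ee ≤ n` -/
theorem ee_le {r : ℕ} (hr : r.Prime) (hrq : ¬ r ∣ Fintype.card F)
    (hd : r ∣ Nat.card (Matrix.ProjectiveSpecialLinearGroup (Fin n) F)) : ee (Fintype.card F) r ≤ n := by
  classical
  have hq1 := Fintype.one_lt_card (α := F)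
  have h1 : r ∣ Nat.card (GL (Fin n) F) := by
    refine (hd.trans (Subgroup.card_quotient_dvd_card _)).trans ?_
    exact Subgroup.card_dvd_of_injective (Matrix.SpecialLinearGroup.toGL (n := Fin n) (R := F))
      Matrix.SpecialLinearGroup.toGL_injective
  rw [Nat.card_eq_fintype_card, ← Nat.card_eq_fintype_card, Matrix.card_GL_field] at h1
  obtain ⟨i, -, hi⟩ := (Prime.dvd_finsetProd_iff hr.prime _).1 h1
  have h2 : Fintype.card F ^ n - Fintype.card F ^ (i : ℕ) =
      Fintype.card F ^ (i : ℕ) * (Fintype.card F ^ (n - i) - 1) := by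
    rw [Nat.mul_sub, ← pow_add, mul_one]
    congr 2
    omega
  rw [h2] at hi
  rcases (Nat.Prime.dvd_mul hr).1 hi with h3 | h3
  · exact absurd (hr.dvd_of_dvd_pow h3) hrq
  · have h4 := Nat.le_of_dvd (by omega) (ee_dvd (by omega) h3)
    omega

/-- **Cocliques of the prime graph of `PSL_n(q)`.** -/
theorem card_coclique (hn : 3 ≤ n) {ρ : Finset ℕ}
    (hρ : ∀ r ∈ ρ, r.Prime ∧ r ∣ Nat.card (Matrix.ProjectiveSpecialLinearGroup (Fin n) F))
    (hc : ∀ r ∈ ρ, ∀ s ∈ ρ, r ≠ s → ¬ ∃ z : Matrix.ProjectiveSpecialLinearGroup (Fin n) F, orderOf z = r * s)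
    {x : ℕ} (hx : x ∈ ρ) :
    ρ.card ≤ n + 1 ∧ ρ.card ≤ wL (Fintype.card F) x + 2 ∧
      (wL (Fintype.card F) x + 2 ≤ n → ρ.card ≤ wL (Fintype.card F) x + 1) := by
  classical
  have hq1 := Fintype.one_lt_card (α := F)
  obtain ⟨p, hp⟩ := CharP.exists F
  have hpp : p.Prime := CharP.char_is_prime F p
  obtain ⟨j, -, hj⟩ := FiniteField.card F p
  set q := Fintype.card F with hq
  let f : ℕ → ℕ := fun s => if s ∣ q then 0 else ee q s
  have hle : ∀ s ∈ ρ, f s ≤ n := by
    intro s hs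
    simp only [f]
    split_ifs with h
    · omega
    · exact ee_le (hρ s hs).1 h (hρ s hs).2
  have hinj : Set.InjOn f ρ := by
    intro r hr s hs hrs
    by_contra hne
    have hr1 := (hρ r hr).1
    have hs1 := (hρ s hs).1
    simp only [f] at hrs
    split_ifs at hrs with h1 h2 h2
    · rw [hj] at h1 h2
      have h3 : r = p := (Nat.prime_dvd_prime_iff_eq hr1 hpp).1 (hr1.dvd_of_dvd_pow h1)
      have h4 : s = p := (Nat.prime_dvd_prime_iff_eq hs1 hpp).1 (hs1.dvd_of_dvd_pow h2)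
      exact hne (h3.trans h4.symm)
    · have := ee_pos hs1 h2
      omega
    · have := ee_pos hr1 h1
      omega
    · exact hc r hr s hs hne (adj_of_ee hn hr1 hs1 hne h1 hrs (ee_le hr1 h1 (hρ r hr).2))
  have hB1 : ρ.card ≤ n + 1 := by
    have h1 : ρ.image f ⊆ Finset.range (n + 1) := by
      intro y hy
      obtain ⟨s, hs, rfl⟩ := Finset.mem_image.1 hy
      exact Finset.mem_range.2 (Nat.lt_succ_of_le (hle s hs))
    have h2 := Finset.card_le_card h1
    rw [Finset.card_image_of_injOn hinj, Finset.card_range] at h2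
    exact h2
  have hB2 : wL q x + 2 ≤ n → ρ.card ≤ wL q x + 1 := by
    intro hw
    have h1 : (ρ.erase x).image f ⊆ Finset.Ioc (n - wL q x) n := by
      intro y hy
      obtain ⟨s, hs, rfl⟩ := Finset.mem_image.1 hy
      obtain ⟨hsx, hs⟩ := Finset.mem_erase.1 hs
      have h2 : ¬ (wL q x + wL q s ≤ n) := fun h2 =>
        hc x hx s hs (Ne.symm hsx) (adj_of_wL (hρ x hx).1 (hρ s hs).1 (Ne.symm hsx) h2)
      have h3 : ¬ (s ∣ q ∨ s ∣ q - 1) := by
        intro h3
        have h4 : wL q s = 2 := if_pos h3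
        omega
      have h4 : wL q s = ee q s := if_neg h3
      have h5 : f s = ee q s := if_neg fun h => h3 (Or.inl h)
      rw [Finset.mem_Ioc]
      refine ⟨?_, hle s hs⟩
      omega
    have h2 := Finset.card_le_card h1
    rw [Finset.card_image_of_injOn (hinj.mono (by
      intro y hy
      exact Finset.mem_of_mem_erase hy)), Nat.card_Ioc, Finset.card_erase_of_mem hx] at h2
    omega
  refine ⟨hB1, ?_, hB2⟩
  by_cases hw : wL q x + 2 ≤ n
  · have := hB2 hw
    omega
  · omega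

end Cfsg.Agent.H72.AdjPSL
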