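import Cfsg.Agent.H103.UniBlock
import Cfsg.Agent.H127.UnitSinger

/-!
# Adjacency in the prime graph of `PSU_n(q)` : blocks (helper72)

`HasBlock F q a d` : there is an isometry `A` of determinant one and order `d` of some nondegenerate
hermitian space of dimension `a` over `F`, `|F| = q²`.

* `hasBlock_of_dvd` : `d` divides `q ^ a - (-1) ^ a`, `d` prime to `q + 1`;
* `hasBlock_two` : `d` divides `q + 1`, `a = 2`; `hasBlock_char` : `d = p`, `a = 2`;
* `exists_order_of_blocks` : blocks of sizes `a + b ≤ n` with coprime orders `r`, `s` give elements of order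
  `t` of `PSU_n(q)` for all `t` dividing `r s`;
* `exists_order_of_block` : one block of size `a ≤ n` and order prime to `q + 1`;
* `exists_order_of_block_lt` : one block of size `a < n`.
-/

set_option autoImplicit false
set_option linter.unusedSectionVars false

namespace Cfsg.Agent.H72.AdjPSU

open Matrix Cfsg.Agent.H186 Cfsg.Agent.ClassicalGeometry.GUBasic Cfsg.Agent.H103.UniBlock Cfsg.Agent.H103.PGUUpper
  Cfsg.Agent.H127

variable {F : Type*} [Field F] [Fintype F]

/-- An isometry of determinant one and order `d` of a nondegenerate hermitian space of dimension `a`. -/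
def HasBlock (F : Type*) [Field F] (q a d : ℕ) : Prop :=
  ∃ A : Matrix (Fin a) (Fin a) F, Uni q A ∧ A.det = 1 ∧ A ^ d = 1 ∧ ∀ k : ℕ, A ^ k = 1 → d ∣ k

section basic

variable {q : ℕ} {ι : Type*} [Fintype ι] [DecidableEq ι]

theorem uni_pow (hF : Fintype.card F = q ^ 2) {A : Matrix ι ι F} (hA : Uni q A) (k : ℕ) : Uni q (A ^ k) := by
  obtain ⟨x, hx, h1⟩ := hA
  refine ⟨x, hx, ?_⟩
  induction k with
  | zero => rw [pow_zero, st_one hF, one_mul, mul_one]
  | succ k ih =>
    rw [pow_succ, st_mul hF]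
    calc st q A * st q (A ^ k) * x * (A ^ k * A) = st q A * (st q (A ^ k) * x * A ^ k) * A := by
          simp only [mul_assoc]
      _ = x := by rw [ih, h1]

theorem det_st (A : Matrix ι ι F) (hF : Fintype.card F = q ^ 2) : (st q A).det = A.det ^ q := by
  obtain ⟨p, hp⟩ := CharP.exists F
  have : Fact p.Prime := ⟨CharP.char_is_prime F p⟩
  obtain ⟨j, hj, -⟩ := UnitRoots.exists_eq_pow hF p
  have h1 : st q A = ((iterateFrobenius F p j).mapMatrix A)ᵀ := by
    ext i k
    rw [st_apply, Matrix.transpose_apply, RingHom.mapMatrix_apply, Matrix.map_apply, iterateFrobenius_def, hj]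
  rw [h1, Matrix.det_transpose, ← RingHom.map_det, iterateFrobenius_def, hj]

theorem det_pow (hF : Fintype.card F = q ^ 2) {A : Matrix ι ι F} (hA : Uni q A) : A.det ^ (q + 1) = 1 := by
  obtain ⟨x, hx, h1⟩ := hA
  have h2 := congrArg Matrix.det h1
  rw [Matrix.det_mul, Matrix.det_mul, det_st A hF] at h2
  have h3 : x.det ≠ 0 := ((Matrix.isUnit_iff_isUnit_det x).1 hx).ne_zero
  have h4 : x.det * (A.det ^ (q + 1)) = x.det * 1 := by
    rw [pow_succ]
    linear_combination h2
  exact mul_left_cancel₀ h3 h4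

theorem scalar_pow (hF : Fintype.card F = q ^ 2) [Nonempty ι] {c : F} (h : Uni q (c • (1 : Matrix ι ι F))) :
    c ^ (q + 1) = 1 := by
  obtain ⟨x, hx, h1⟩ := h
  rw [st_smul, st_one hF] at h1
  have h2 : (c ^ (q + 1)) • x = x := by
    calc (c ^ (q + 1)) • x = c ^ q • 1 * x * c • 1 := by
          simp only [Matrix.smul_mul, Matrix.one_mul, Matrix.mul_smul, Matrix.mul_one, smul_smul]
          rw [pow_succ, mul_comm]
      _ = x := h1
  have h3 : (c ^ (q + 1) - 1) • x = 0 := by rw [sub_smul, one_smul, h2, sub_self]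
  rcases smul_eq_zero.1 h3 with h4 | h4
  · exact sub_eq_zero.1 h4
  · exfalso
    rw [h4] at hx
    exact not_isUnit_zero hx

theorem uni_of_eq {A B : Matrix ι ι F} (h : A = B) (hA : Uni q A) : Uni q B := h ▸ hA

end basic

section construct

variable {q : ℕ}

theorem HasBlock.dvd (hF : Fintype.card F = q ^ 2) {a d e : ℕ} (h : HasBlock F q a d) (he : e ∣ d) (hd : d ≠ 0) :
    HasBlock F q a e := by
  obtain ⟨A, hA, hdet, h1, h2⟩ := h
  obtain ⟨c, rfl⟩ := he
  have hc : 0 < c := Nat.pos_of_ne_zero fun h => hd (by rw [h, mul_zero])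
  refine ⟨A ^ c, uni_pow hF hA c, by rw [Matrix.det_pow, hdet, one_pow], by rw [← pow_mul, mul_comm, h1], ?_⟩
  intro k hk
  rw [← pow_mul] at hk
  have h3 := h2 _ hk
  rw [mul_comm] at h3
  exact Nat.dvd_of_mul_dvd_mul_left hc h3

/-- an isometry of order prime to `q + 1` has determinant one -/
theorem hasBlock_of_coprime (hF : Fintype.card F = q ^ 2) {a d : ℕ} {A : Matrix (Fin a) (Fin a) F} (hA : Uni q A)
    (hco : Nat.Coprime d (q + 1)) (h1 : A ^ d = 1) (h2 : ∀ k : ℕ, A ^ k = 1 → d ∣ k) : HasBlock F q a d := by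
  refine ⟨A, hA, ?_, h1, h2⟩
  have h3 : A.det ^ d = 1 := by rw [← Matrix.det_pow, h1, Matrix.det_one]
  have h4 : A.det ^ (q + 1) = 1 := det_pow hF hA
  have h5 := orderOf_dvd_of_pow_eq_one h3
  have h6 := orderOf_dvd_of_pow_eq_one h4
  have h7 : orderOf A.det ∣ 1 := by
    rw [← hco]
    exact Nat.dvd_gcd h5 h6
  exact orderOf_eq_one_iff.1 (Nat.dvd_one.1 h7)

/-- from a unit of order `N` preserving a form, all divisors of `N` prime to `q + 1` -/
theorem hasBlock_of_unit (hF : Fintype.card F = q ^ 2) {a N d : ℕ} {ι : Type*} [Fintype ι] [DecidableEq ι]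
    (e : Fin a ≃ ι) {A : Matrix ι ι F} (hA : Uni q A) (h1 : A ^ N = 1) (h2 : ∀ k : ℕ, A ^ k = 1 → N ∣ k)
    (hN : N ≠ 0) (hd : d ∣ N) (hco : Nat.Coprime d (q + 1)) : HasBlock F q a d := by
  obtain ⟨c, rfl⟩ := hd
  have hc : 0 < c := Nat.pos_of_ne_zero fun h => hN (by rw [h, mul_zero])
  have hs : ∀ k : ℕ, ((A ^ c).submatrix e e) ^ k = (A ^ (c * k)).submatrix e e := by
    intro k
    induction k with
    | zero => rw [pow_zero, mul_zero, pow_zero, Matrix.submatrix_one_equiv]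
    | succ k ih => rw [pow_succ, ih, Matrix.submatrix_mul_equiv, ← pow_add, mul_add, mul_one]
  refine hasBlock_of_coprime hF (A := (A ^ c).submatrix e e) (uni_submatrix e (uni_pow hF hA c)) hco ?_ ?_
  · rw [hs, mul_comm, h1, Matrix.submatrix_one_equiv]
  · intro k hk
    rw [hs] at hk
    have h3 : A ^ (c * k) = 1 := by
      have h4 := congrArg (fun M : Matrix (Fin a) (Fin a) F => M.submatrix e.symm e.symm) hk
      simp only [Matrix.submatrix_submatrix, Equiv.self_comp_symm, Matrix.submatrix_id_id] at h4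
      rw [h4, Matrix.submatrix_one_equiv]
    have h5 := h2 _ h3
    rw [mul_comm d c] at h5
    exact Nat.dvd_of_mul_dvd_mul_left hc h5

theorem hasBlock_odd (hF : Fintype.card F = q ^ 2) {a d : ℕ} (ha : Odd a) (hd : d ∣ q ^ a + 1)
    (hco : Nat.Coprime d (q + 1)) : HasBlock F q a d := by
  obtain ⟨p, hp⟩ := CharP.exists F
  have : Fact p.Prime := ⟨CharP.char_is_prime F p⟩
  obtain ⟨j, hj, -⟩ := UnitRoots.exists_eq_pow hF p
  obtain ⟨A, hA, ho⟩ := exists_singer_unitary (p := p) hj hF ha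
  refine hasBlock_of_unit hF (Equiv.refl _) (N := q ^ a + 1) hA ?_ ?_ (by omega) hd hco
  · rw [← Units.val_pow_eq_pow_val, ← ho, pow_orderOf_eq_one, Units.val_one]
  · intro k hk
    rw [← ho]
    apply orderOf_dvd_of_pow_eq_one
    apply Units.ext
    rw [Units.val_pow_eq_pow_val, hk, Units.val_one]

/-- a Singer cycle -/
theorem exists_singer (F : Type*) [Field F] [Fintype F] {m : ℕ} (hm : m ≠ 0) :
    ∃ A : (Matrix (Fin m) (Fin m) F)ˣ, orderOf A = Fintype.card F ^ m - 1 := by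
  classical
  obtain ⟨p, hp⟩ := CharP.exists F
  have : Fact p.Prime := ⟨CharP.char_is_prime F p⟩
  have hm0 : NeZero m := ⟨hm⟩
  let K := FiniteField.Extension F p m
  have hKcard : Nat.card K = Fintype.card F ^ m := by
    rw [FiniteField.natCard_extension F p m, Nat.card_eq_fintype_card]
  let b := Module.finBasisOfFinrankEq F K (FiniteField.finrank_extension F p m)
  obtain ⟨y, hy⟩ := IsCyclic.exists_generator (α := Kˣ)
  have hordy : orderOf y = Fintype.card F ^ m - 1 := by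
    rw [orderOf_eq_card_of_forall_mem_zpowers hy, Nat.card_units, hKcard]
  refine ⟨Units.map (Algebra.leftMulMatrix b).toRingHom.toMonoidHom y, ?_⟩
  rw [orderOf_injective _ ?_ y, hordy]
  apply Units.map_injective
  exact Algebra.leftMulMatrix_injective b

theorem hasBlock_even (hF : Fintype.card F = q ^ 2) {j d : ℕ} (hj : j ≠ 0) (hd : d ∣ q ^ (2 * j) - 1)
    (hco : Nat.Coprime d (q + 1)) : HasBlock F q (2 * j) d := by
  have hq := two_le hF
  obtain ⟨A, hA⟩ := exists_singer F hj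
  have hA' : orderOf A = q ^ (2 * j) - 1 := by rw [hA, hF, ← pow_mul]
  let A' : GL (Fin j) F := A
  have hpos : 0 < q ^ (2 * j) - 1 := by
    have h1 : 1 < q ^ (2 * j) := Nat.one_lt_pow (by omega) (by omega)
    omega
  have hpow : ∀ k : ℕ, (fromBlocks (A' : Matrix (Fin j) (Fin j) F) 0 0 (st q ((A'⁻¹ : GL (Fin j) F) :
      Matrix (Fin j) (Fin j) F))) ^ k = fromBlocks ((A' ^ k : GL (Fin j) F) : Matrix (Fin j) (Fin j) F) 0 0
        (st q (((A' ^ k)⁻¹ : GL (Fin j) F) : Matrix (Fin j) (Fin j) F)) := by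
    intro k
    induction k with
    | zero =>
      rw [pow_zero, pow_zero, inv_one, Units.val_one, st_one hF, fromBlocks_one]
    | succ k ih =>
      rw [pow_succ, ih, fromBlocks_multiply, pow_succ, _root_.mul_inv_rev, Units.val_mul, Units.val_mul, st_mul hF]
      simp only [Matrix.mul_zero, Matrix.zero_mul, add_zero, zero_add]
  refine hasBlock_of_unit hF ((finCongr (two_mul j)).trans finSumFinEquiv.symm) (N := q ^ (2 * j) - 1)
    (uni_hyp hF A') ?_ ?_ hpos.ne' hd hco
  · rw [hpow, ← hA', show A' ^ orderOf A = 1 from pow_orderOf_eq_one A, inv_one, Units.val_one, st_one hF,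
      fromBlocks_one]
  · intro k hk
    rw [hpow, ← fromBlocks_one, fromBlocks_inj] at hk
    rw [← hA']
    apply orderOf_dvd_of_pow_eq_one
    exact Units.ext hk.1

/-- The divisors of `q + 1` in dimension two. -/
theorem hasBlock_two (hF : Fintype.card F = q ^ 2) {d : ℕ} (hd : d ∣ q + 1) : HasBlock F q 2 d := by
  have hq := two_le hF
  classical
  obtain ⟨y, hy⟩ := IsCyclic.exists_generator (α := Fˣ)
  have hordy : orderOf y = q ^ 2 - 1 := by
    rw [orderOf_eq_card_of_forall_mem_zpowers hy, Nat.card_units, Nat.card_eq_fintype_card, hF]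
  have hfac : q ^ 2 - 1 = (q + 1) * (q - 1) := by
    have := Nat.sq_sub_sq q 1
    rw [one_pow] at this
    exact this
  obtain ⟨c, hc⟩ := hd
  have hc0 : c ≠ 0 := by rintro rfl; omega
  have hd0 : d ≠ 0 := by rintro rfl; omega
  obtain ⟨u, hu⟩ : ∃ u, u = y ^ (c * (q - 1)) := ⟨_, rfl⟩
  have hordu : orderOf u = d := by
    rw [hu, orderOf_pow' y (Nat.mul_ne_zero hc0 (by omega)), hordy, hfac, hc]
    have h1 : d * c * (q - 1) = d * (c * (q - 1)) := by ring
    rw [h1, Nat.gcd_mul_left_left, Nat.mul_div_cancel _ (Nat.mul_pos (Nat.pos_of_ne_zero hc0) (by omega))]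
  have hu1 : u ^ (q + 1) = 1 := by
    apply orderOf_dvd_iff_pow_eq_one.1
    rw [hordu, hc]
    exact dvd_mul_right _ _
  have hu2 : ((u⁻¹ : Fˣ) : F) ^ q * ((u⁻¹ : Fˣ) : F) = 1 := by
    rw [← pow_succ, ← Units.val_pow_eq_pow_val, inv_pow, hu1, inv_one, Units.val_one]
  have hu3 : (u : F) ^ q * (u : F) = 1 := by
    rw [← pow_succ, ← Units.val_pow_eq_pow_val, hu1, Units.val_one]
  have hpow : ∀ k : ℕ, (!![(u : F), 0; 0, ((u⁻¹ : Fˣ) : F)] : Matrix (Fin 2) (Fin 2) F) ^ k =
      !![((u ^ k : Fˣ) : F), 0; 0, (((u ^ k)⁻¹ : Fˣ) : F)] := by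
    intro k
    induction k with
    | zero => simp [Matrix.one_fin_two]
    | succ k ih =>
      rw [pow_succ, ih, pow_succ, _root_.mul_inv_rev, Matrix.mul_fin_two, Units.val_mul, Units.val_mul]
      simp only [mul_zero, zero_mul, add_zero, zero_add]
      rw [mul_comm ((u⁻¹ : Fˣ) : F)]
  refine ⟨!![(u : F), 0; 0, ((u⁻¹ : Fˣ) : F)], ⟨1, isUnit_one, ?_⟩, ?_, ?_, ?_⟩
  · rw [mul_one]
    ext i j
    rw [Matrix.mul_apply, Fin.sum_univ_two, st_apply, st_apply]
    fin_cases i <;> fin_cases j <;> simp [hu3, show q ≠ 0 by omega]; simpa using hu2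
  · rw [Matrix.det_fin_two_of, ← Units.val_mul, mul_inv_cancel, Units.val_one, mul_zero, sub_zero]
  · rw [hpow, ← hordu, pow_orderOf_eq_one, inv_one, Units.val_one, Matrix.one_fin_two]
  · intro k hk
    rw [hpow, Matrix.one_fin_two] at hk
    have h1 := congrFun (congrFun hk 0) 0
    rw [← hordu]
    apply orderOf_dvd_of_pow_eq_one
    apply Units.ext
    simpa using h1

/-- The characteristic in dimension two. -/
theorem hasBlock_char (hF : Fintype.card F = q ^ 2) (p : ℕ) [hp : Fact p.Prime] [CharP F p] : HasBlock F q 2 p := by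
  obtain ⟨t, ht⟩ := exists_pow_ne hF
  have hq := two_le hF
  have ha1 : (t ^ q - t) ≠ 0 := sub_ne_zero.2 ht
  obtain ⟨a, ha⟩ : ∃ a, a = t ^ q - t := ⟨_, rfl⟩
  obtain ⟨j, hj, -⟩ := UnitRoots.exists_eq_pow hF p
  have ha2 : a ^ q = - a := by
    have h1 : a ^ q = (t ^ q) ^ q - t ^ q := by
      rw [ha, hj]
      exact sub_pow_char_pow _ _ _
    rw [h1, pow_pow_q hF, ha]
    ring
  rw [← ha] at ha1
  have hpow : ∀ k : ℕ, (!![1, a; 0, 1] : Matrix (Fin 2) (Fin 2) F) ^ k = !![1, k * a; 0, 1] := by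
    intro k
    induction k with
    | zero => simp [Matrix.one_fin_two]
    | succ k ih =>
      rw [pow_succ, ih, Matrix.mul_fin_two]
      have h1 : a + (k : F) * a = ((k : F) + 1) * a := by ring
      simp [h1]
  have hx : (!![0, 1; 1, 0] : Matrix (Fin 2) (Fin 2) F) * !![0, 1; 1, 0] = 1 := by
    rw [Matrix.mul_fin_two, Matrix.one_fin_two]
    simp
  refine ⟨!![1, a; 0, 1], ⟨!![0, 1; 1, 0], ⟨⟨_, _, hx, hx⟩, rfl⟩, ?_⟩, ?_, ?_, ?_⟩
  · have h1 : st q (!![1, a; 0, 1] : Matrix (Fin 2) (Fin 2) F) = !![1, 0; -a, 1] := by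
      ext i j
      rw [st_apply]
      fin_cases i <;> fin_cases j <;> simp [ha2, show q ≠ 0 by omega]
    rw [h1, Matrix.mul_fin_two, Matrix.mul_fin_two]
    simp
  · rw [Matrix.det_fin_two_of]
    ring
  · rw [hpow, CharP.cast_eq_zero, zero_mul, Matrix.one_fin_two]
  · intro k hk
    rw [hpow, Matrix.one_fin_two] at hk
    have h1 := congrFun (congrFun hk 0) 1
    have h2 : (k : F) * a = 0 := by simpa using h1
    rcases mul_eq_zero.1 h2 with h3 | h3
    · exact (CharP.cast_eq_zero_iff F p k).1 h3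
    · exact absurd h3 ha1

end construct

section exist

variable {q n : ℕ}

/-- `exists_order` for other index types -/
theorem exists_order_of_index (hF : Fintype.card F = q ^ 2) (hn : 3 ≤ n) {ι : Type*} [Fintype ι] [DecidableEq ι]
    (e : Fin n ≃ ι) {A : Matrix ι ι F} (hA : Uni q A) (hdet : A.det = 1) {N : ℕ}
    (hN : ∀ (k : ℕ) (c : F), A ^ k = c • 1 → N ∣ k) : ∀ s, s ∣ N → ∃ z : Cfsg.PSU n F q, orderOf z = s := by
  obtain ⟨x, hx, h1⟩ := uni_submatrix e hA
  refine UnitSinger.exists_order hF hn (A.submatrix e e) x hx ?_ h1 ?_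
  · rw [Matrix.det_submatrix_equiv_self, hdet]
  · intro k c hk
    apply hN k c
    have hs : ∀ k : ℕ, (A.submatrix e e) ^ k = (A ^ k).submatrix e e := by
      intro k
      induction k with
      | zero => rw [pow_zero, pow_zero, Matrix.submatrix_one_equiv]
      | succ k ih => rw [pow_succ, ih, Matrix.submatrix_mul_equiv, ← pow_succ]
    rw [hs] at hk
    have h4 := congrArg (fun M : Matrix (Fin n) (Fin n) F => M.submatrix e.symm e.symm) hk
    simp only [Matrix.submatrix_submatrix, Equiv.self_comp_symm, Matrix.submatrix_id_id] at h4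
    rw [h4]
    change c • ((1 : Matrix (Fin n) (Fin n) F).submatrix e.symm e.symm) = c • 1
    rw [Matrix.submatrix_one_equiv]

theorem fromBlocks_pow {ι κ : Type*} [Fintype ι] [DecidableEq ι] [Fintype κ] [DecidableEq κ] (A : Matrix ι ι F)
    (B : Matrix κ κ F) (k : ℕ) : (fromBlocks A 0 0 B) ^ k = fromBlocks (A ^ k) 0 0 (B ^ k) := by
  induction k with
  | zero => rw [pow_zero, pow_zero, pow_zero, fromBlocks_one]
  | succ k ih =>
    rw [pow_succ, ih, fromBlocks_multiply, pow_succ, pow_succ]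
    simp only [Matrix.mul_zero, Matrix.zero_mul, add_zero, zero_add]

theorem fromBlocks_eq_smul {ι κ : Type*} [Fintype ι] [DecidableEq ι] [Fintype κ] [DecidableEq κ] {A : Matrix ι ι F}
    {B : Matrix κ κ F} {c : F} (h : fromBlocks A 0 0 B = c • 1) : A = c • 1 ∧ B = c • 1 := by
  rw [← fromBlocks_one, fromBlocks_smul, fromBlocks_inj] at h
  exact ⟨h.1, h.2.2.2⟩

theorem pow_eq_one_of_scalar {a d k : ℕ} (ha : 1 ≤ a) {A : Matrix (Fin a) (Fin a) F} {c : F} (h1 : A ^ d = 1)
    (h2 : A ^ k = c • 1) : c ^ d = 1 := by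
  have h3 : (A ^ k) ^ d = 1 := by rw [← pow_mul, mul_comm, pow_mul, h1, one_pow]
  rw [h2, smul_pow, one_pow] at h3
  have h4 := congrFun (congrFun h3 ⟨0, ha⟩) ⟨0, ha⟩
  simpa using h4

/-- **Two blocks of coprime orders.** -/
theorem exists_order_of_blocks (hF : Fintype.card F = q ^ 2) (hn : 3 ≤ n) {a b r s : ℕ} (h1 : HasBlock F q a r)
    (h2 : HasBlock F q b s) (ha : 1 ≤ a) (hb : 1 ≤ b) (hab : a + b ≤ n) (hco : Nat.Coprime r s) :
    ∀ t, t ∣ r * s → ∃ z : Cfsg.PSU n F q, orderOf z = t := by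
  obtain ⟨A, hA, hAd, hA1, hA2⟩ := h1
  obtain ⟨B, hB, hBd, hB1, hB2⟩ := h2
  have hq := two_le hF
  obtain ⟨c, hc⟩ : ∃ c, n = a + (b + c) := ⟨n - a - b, by omega⟩
  let e : Fin n ≃ Fin a ⊕ (Fin b ⊕ Fin c) :=
    ((finCongr hc).trans finSumFinEquiv.symm).trans (Equiv.sumCongr (Equiv.refl _) finSumFinEquiv.symm)
  refine exists_order_of_index hF hn e (A := fromBlocks A 0 0 (fromBlocks B 0 0 1))
    (uni_fromBlocks (by omega) hA (uni_fromBlocks (by omega) hB (uni_one hF))) ?_ ?_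
  · rw [Matrix.det_fromBlocks_zero₂₁, Matrix.det_fromBlocks_zero₂₁, hAd, hBd, Matrix.det_one, one_mul, one_mul]
  · intro k t hk
    rw [fromBlocks_pow, fromBlocks_pow] at hk
    obtain ⟨h3, h4⟩ := fromBlocks_eq_smul hk
    obtain ⟨h5, -⟩ := fromBlocks_eq_smul h4
    have h6 := pow_eq_one_of_scalar ha hA1 h3
    have h7 := pow_eq_one_of_scalar hb hB1 h5
    have h8 : t = 1 := by
      have h9 : orderOf t ∣ 1 := by
        rw [← hco]
        exact Nat.dvd_gcd (orderOf_dvd_of_pow_eq_one h6) (orderOf_dvd_of_pow_eq_one h7)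
      exact orderOf_eq_one_iff.1 (Nat.dvd_one.1 h9)
    rw [h8, one_smul] at h3 h5
    exact hco.mul_dvd_of_dvd_of_dvd (hA2 _ h3) (hB2 _ h5)

/-- **One block of order prime to `q + 1`.** -/
theorem exists_order_of_block (hF : Fintype.card F = q ^ 2) (hn : 3 ≤ n) {a r : ℕ} (h1 : HasBlock F q a r)
    (ha : 1 ≤ a) (han : a ≤ n) (hco : Nat.Coprime r (q + 1)) : ∀ t, t ∣ r → ∃ z : Cfsg.PSU n F q, orderOf z = t := by
  obtain ⟨A, hA, hAd, hA1, hA2⟩ := h1
  have hq := two_le hF
  obtain ⟨c, hc⟩ : ∃ c, n = a + c := ⟨n - a, by omega⟩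
  let e : Fin n ≃ Fin a ⊕ Fin c := (finCongr hc).trans finSumFinEquiv.symm
  refine exists_order_of_index hF hn e (A := fromBlocks A 0 0 1) (uni_fromBlocks (by omega) hA (uni_one hF)) ?_ ?_
  · rw [Matrix.det_fromBlocks_zero₂₁, hAd, Matrix.det_one, one_mul]
  · intro k t hk
    rw [fromBlocks_pow] at hk
    obtain ⟨h3, -⟩ := fromBlocks_eq_smul hk
    have h6 := pow_eq_one_of_scalar ha hA1 h3
    have : Nonempty (Fin a) := ⟨⟨0, ha⟩⟩
    have h7 : t ^ (q + 1) = 1 := scalar_pow hF (uni_of_eq h3 (uni_pow hF hA k))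
    have h8 : t = 1 := by
      have h9 : orderOf t ∣ 1 := by
        rw [← hco]
        exact Nat.dvd_gcd (orderOf_dvd_of_pow_eq_one h6) (orderOf_dvd_of_pow_eq_one h7)
      exact orderOf_eq_one_iff.1 (Nat.dvd_one.1 h9)
    rw [h8, one_smul] at h3
    exact hA2 _ h3

/-- **One small block.** -/
theorem exists_order_of_block_lt (hF : Fintype.card F = q ^ 2) (hn : 3 ≤ n) {a r : ℕ} (h1 : HasBlock F q a r)
    (han : a < n) : ∀ t, t ∣ r → ∃ z : Cfsg.PSU n F q, orderOf z = t := by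
  obtain ⟨A, hA, hAd, hA1, hA2⟩ := h1
  have hq := two_le hF
  obtain ⟨c, hc⟩ : ∃ c, n = a + c := ⟨n - a, by omega⟩
  have hc0 : 0 < c := by omega
  let e : Fin n ≃ Fin a ⊕ Fin c := (finCongr hc).trans finSumFinEquiv.symm
  refine exists_order_of_index hF hn e (A := fromBlocks A 0 0 1) (uni_fromBlocks (by omega) hA (uni_one hF)) ?_ ?_
  · rw [Matrix.det_fromBlocks_zero₂₁, hAd, Matrix.det_one, one_mul]
  · intro k t hk
    rw [fromBlocks_pow, one_pow] at hk
    obtain ⟨h3, h4⟩ := fromBlocks_eq_smul hk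
    have h8 : t = 1 := by
      have h5 := congrFun (congrFun h4 ⟨0, hc0⟩) ⟨0, hc0⟩
      simpa using h5.symm
    rw [h8, one_smul] at h3
    exact hA2 _ h3

end exist

end Cfsg.Agent.H72.AdjPSU
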