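import Cfsg.Agent.H72.AdjSp
import Cfsg.Agent.S0292
import Cfsg.Agent.S0293
import Cfsg.Agent.S0294

/-!
# Cocliques of the prime graphs of the symplectic and orthogonal groups (helper72)

`cl lo hi` is the set of the classes `k` with `lo < eta k ≤ hi`.
-/

set_option autoImplicit false
set_option linter.unusedSectionVars false
set_option linter.style.haveILetI false

namespace Cfsg.Agent.H72.AdjCoc

open Cfsg.Agent.H72.AdjOrth Cfsg.Agent.H72.AdjSp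

section count

/-- the classes `k` with `lo < eta k ≤ hi` -/
def cl (lo hi : ℕ) : Finset ℕ := (Finset.range (2 * hi + 1)).filter fun k => lo < eta k ∧ eta k ≤ hi

theorem mem_cl {lo hi k : ℕ} : k ∈ cl lo hi ↔ lo < eta k ∧ eta k ≤ hi := by
  rw [cl, Finset.mem_filter, Finset.mem_range]
  constructor
  · exact fun h => h.2
  · intro h
    refine ⟨?_, h⟩
    rw [eta] at h
    split_ifs at h with h1
    · obtain ⟨j, hj⟩ := h1
      omega
    · omega

theorem card_cl_le (lo hi : ℕ) : (cl lo hi).card ≤ (hi - lo) + ((hi + 1) / 2 - (lo + 1) / 2) := by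
  have h1 : cl lo hi ⊆ (Finset.Ioc lo hi).image (fun j => 2 * j) ∪
      (Finset.Ico ((lo + 1) / 2) ((hi + 1) / 2)).image (fun j => 2 * j + 1) := by
    intro k hk
    rw [mem_cl] at hk
    rw [Finset.mem_union, Finset.mem_image, Finset.mem_image]
    rw [eta] at hk
    split_ifs at hk with h1
    · left
      obtain ⟨j, hj⟩ := h1
      exact ⟨j, Finset.mem_Ioc.2 (by omega), by omega⟩
    · right
      rw [Nat.not_even_iff_odd] at h1
      obtain ⟨j, hj⟩ := h1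
      exact ⟨j, Finset.mem_Ico.2 (by omega), by omega⟩
  refine (Finset.card_le_card h1).trans ((Finset.card_union_le _ _).trans ?_)
  refine Nat.add_le_add (Finset.card_image_le.trans ?_) (Finset.card_image_le.trans ?_)
  · rw [Nat.card_Ioc]
  · rw [Nat.card_Ico]

end count

section abs

variable {q m c : ℕ} {adj : ℕ → ℕ → Prop} {P : ℕ → Prop} {ρ T : Finset ℕ}

/-- the number of members of a coclique other than `2` and the characteristic -/
theorem card_filter_le (hprime : ∀ s ∈ ρ, s.Prime)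
    (hclass : ∀ s ∈ ρ, s ≠ 2 → ¬ s ∣ q → P (ee q s))
    (hcoc : ∀ r ∈ ρ, ∀ s ∈ ρ, r ≠ s → ¬ adj r s)
    (hclq : ∀ r s : ℕ, r.Prime → s.Prime → r ≠ 2 → s ≠ 2 → r ≠ s → ¬ r ∣ q → ¬ s ∣ q → ee q r = ee q s →
      P (ee q r) → adj r s)
    (A : Finset ℕ) (hA : A ⊆ ρ) (hA2 : ∀ s ∈ A, s ≠ 2 ∧ ¬ s ∣ q) (hT : ∀ s ∈ A, P (ee q s) → ee q s ∈ T) :
    A.card ≤ T.card := by
  refine Finset.card_le_card_of_injOn (ee q) ?_ ?_
  · intro s hs
    exact hT s hs (hclass s (hA hs) (hA2 s hs).1 (hA2 s hs).2)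
  · intro r hr s hs hrs
    by_contra hne
    exact hcoc r (hA hr) s (hA hs) hne (hclq r s (hprime r (hA hr)) (hprime s (hA hs)) (hA2 r hr).1 (hA2 s hs).1 hne
      (hA2 r hr).2 (hA2 s hs).2 hrs (hclass r (hA hr) (hA2 r hr).1 (hA2 r hr).2))

theorem coc_bound (hprime : ∀ s ∈ ρ, s.Prime)
    (hclass : ∀ s ∈ ρ, s ≠ 2 → ¬ s ∣ q → P (ee q s))
    (hcoc : ∀ r ∈ ρ, ∀ s ∈ ρ, r ≠ s → ¬ adj r s)
    (hblk : ∀ r s : ℕ, r.Prime → s.Prime → r ≠ s → wO q r + wO q s + c ≤ m → adj r s)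
    (hclq : ∀ r s : ℕ, r.Prime → s.Prime → r ≠ 2 → s ≠ 2 → r ≠ s → ¬ r ∣ q → ¬ s ∣ q → ee q r = ee q s →
      P (ee q r) → adj r s)
    {x : ℕ} (hx : x ∈ ρ) (hxm : wO q x + 2 + c ≤ m)
    (hT : ∀ k, P k → m < wO q x + eta k + c → k ∈ T) : ρ.card ≤ 1 + T.card := by
  classical
  have h1 : (ρ.erase x).card ≤ T.card := by
    have h2 : ∀ s ∈ ρ.erase x, s ≠ 2 ∧ ¬ s ∣ q := by
      intro s hs
      obtain ⟨hsx, hs⟩ := Finset.mem_erase.1 hs
      rw [← not_or]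
      intro h3
      have h4 : wO q s = 2 := if_pos h3
      exact hcoc x hx s hs (Ne.symm hsx) (hblk x s (hprime x hx) (hprime s hs) (Ne.symm hsx) (by omega))
    refine card_filter_le hprime hclass hcoc hclq _ (Finset.erase_subset _ _) h2 ?_
    intro s hs hP
    refine hT _ hP ?_
    have h5 := h2 s hs
    obtain ⟨hsx, hs⟩ := Finset.mem_erase.1 hs
    have h4 : wO q s = eta (ee q s) := if_neg (not_or.2 h5)
    by_contra h6
    exact hcoc x hx s hs (Ne.symm hsx) (hblk x s (hprime x hx) (hprime s hs) (Ne.symm hsx) (by omega))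
  rw [Finset.card_erase_of_mem hx] at h1
  omega

theorem coc_bound' (hprime : ∀ s ∈ ρ, s.Prime) {p : ℕ} (hqp : ∀ s ∈ ρ, s ∣ q → s = p)
    (hclass : ∀ s ∈ ρ, s ≠ 2 → ¬ s ∣ q → P (ee q s))
    (hcoc : ∀ r ∈ ρ, ∀ s ∈ ρ, r ≠ s → ¬ adj r s)
    (hclq : ∀ r s : ℕ, r.Prime → s.Prime → r ≠ 2 → s ≠ 2 → r ≠ s → ¬ r ∣ q → ¬ s ∣ q → ee q r = ee q s →
      P (ee q r) → adj r s)
    (hT : ∀ k, P k → k ∈ T) : ρ.card ≤ 2 + T.card := by
  classical
  have h1 : ((ρ.erase 2).erase p).card ≤ T.card := by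
    refine card_filter_le hprime hclass hcoc hclq _ ?_ ?_ ?_
    · exact (Finset.erase_subset _ _).trans (Finset.erase_subset _ _)
    · intro s hs
      obtain ⟨hsp, hs⟩ := Finset.mem_erase.1 hs
      obtain ⟨hs2, hs⟩ := Finset.mem_erase.1 hs
      exact ⟨hs2, fun h => hsp (hqp s hs h)⟩
    · exact fun s _ h => hT _ h
  have h2 := Finset.pred_card_le_card_erase (s := ρ) (a := 2)
  have h3 := Finset.pred_card_le_card_erase (s := ρ.erase 2) (a := p)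
  omega

end abs

section arith

variable {q : ℕ}

theorem eta_le_of_dvd {k i : ℕ} (hi : 1 ≤ i) (h : k ∣ 2 * i) : eta k ≤ i := by
  rw [eta]
  split_ifs with h1
  · have := Nat.le_of_dvd (by omega) h
    omega
  · have h2 : Nat.Coprime k 2 := Nat.coprime_two_right.2 (Nat.not_even_iff_odd.1 h1)
    exact Nat.le_of_dvd (by omega) (h2.dvd_of_dvd_mul_left h)

theorem eta_two_mul {q s i : ℕ} (hq : 1 ≤ q) (hi : 1 ≤ i) (h : s ∣ q ^ (2 * i) - 1) : eta (ee q s) ≤ i :=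
  eta_le_of_dvd hi (ee_dvd hq h)

theorem plus_arith {q s m : ℕ} (hq : 1 ≤ q) (hm : 2 ≤ m) (h : s ∣ q ^ m - 1) :
    eta (ee q s) < m ∨ (eta (ee q s) = m ∧ sg (ee q s) = 1) := by
  have h1 := ee_dvd hq h
  have h2 := Nat.le_of_dvd (by omega) h1
  rw [eta, sg]
  split_ifs with h3
  · left
    omega
  · rcases Nat.eq_or_lt_of_le h2 with h4 | h4
    · exact Or.inr ⟨h4, rfl⟩
    · exact Or.inl h4

theorem minus_arith {q s m : ℕ} (hq : 1 ≤ q) (hm : 2 ≤ m) (hs : s.Prime) (hs2 : s ≠ 2) (h : s ∣ q ^ m + 1) :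
    eta (ee q s) < m ∨ (eta (ee q s) = m ∧ sg (ee q s) = -1) := by
  have h0 : s ∣ q ^ (2 * m) - 1 := by
    have h1 : q ^ (2 * m) - 1 = (q ^ m + 1) * (q ^ m - 1) := by
      rw [two_mul, pow_add]
      have := Nat.mul_self_sub_mul_self_eq (q ^ m) 1
      rw [one_mul] at this
      exact this
    rw [h1]
    exact h.mul_right _
  have h1 := eta_two_mul hq (by omega) h0
  rcases Nat.eq_or_lt_of_le h1 with h4 | h4
  · right
    refine ⟨h4, ?_⟩
    rw [sg]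
    split_ifs with h3
    · rfl
    · exfalso
      rw [eta, if_neg h3] at h4
      have h5 := dvd_pow_ee (q := q) (r := s) hq
      rw [h4] at h5
      have h6 : s ∣ (q ^ m + 1) - (q ^ m - 1) := Nat.dvd_sub h h5
      have h7 : 1 ≤ q ^ m := Nat.one_le_pow _ _ hq
      rw [show (q ^ m + 1) - (q ^ m - 1) = 2 by omega] at h6
      exact hs2 ((Nat.prime_dvd_prime_iff_eq hs Nat.prime_two).1 h6)
  · exact Or.inl h4

theorem prod_arith {q s n : ℕ} (hq : 1 ≤ q) (hs : s.Prime)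
    (h : s ∣ ∏ i ∈ Finset.range n, (q ^ (2 * (i + 1)) - 1)) : eta (ee q s) ≤ n := by
  obtain ⟨i, hi, hi2⟩ := (hs.prime.dvd_finsetProd_iff _).1 h
  rw [Finset.mem_range] at hi
  exact (eta_two_mul hq (by omega) hi2).trans (by omega)

end arith

section classes

variable {F : Type*} [Field F] [Fintype F] {m : ℕ}

theorem odd_class (h2 : (2 : F) ≠ 0) (hm : 3 ≤ m) {s : ℕ} (hs : s.Prime) (hsq : ¬ s ∣ Nat.card F)
    (hd : s ∣ Nat.card (Cfsg.POmega F (Cfsg.quadFormOdd m F))) : eta (ee (Nat.card F) s) ≤ m := by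
  have h1 : s ∣ 2 * Nat.card (Cfsg.POmega F (Cfsg.quadFormOdd m F)) := Dvd.dvd.mul_left hd 2
  rw [Cfsg.Agent.S0292.result (F := F) rfl (by rw [← Nat.card_eq_fintype_card]; exact odd_card_of_two h2) m hm,
    ← Nat.card_eq_fintype_card] at h1
  rcases (Nat.Prime.dvd_mul hs).1 h1 with h3 | h3
  · exact absurd (hs.dvd_of_dvd_pow h3) hsq
  · exact prod_arith Nat.card_pos hs h3

theorem plus_class (hm : 4 ≤ m) {s : ℕ} (hs : s.Prime) (hsq : ¬ s ∣ Nat.card F)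
    (hd : s ∣ Nat.card (Cfsg.POmega F (Cfsg.quadFormPlus m F))) :
    eta (ee (Nat.card F) s) < m ∨ (eta (ee (Nat.card F) s) = m ∧ sg (ee (Nat.card F) s) = 1) := by
  have h1 : s ∣ Nat.gcd 4 (Fintype.card F ^ m - 1) * Nat.card (Cfsg.POmega F (Cfsg.quadFormPlus m F)) :=
    Dvd.dvd.mul_left hd _
  rw [Cfsg.Agent.S0293.result (F := F) rfl m hm, ← Nat.card_eq_fintype_card] at h1
  rcases (Nat.Prime.dvd_mul hs).1 h1 with h3 | h3
  · rcases (Nat.Prime.dvd_mul hs).1 h3 with h4 | h4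
    · exact absurd (hs.dvd_of_dvd_pow h4) hsq
    · exact plus_arith Nat.card_pos (by omega) h4
  · left
    have := prod_arith Nat.card_pos hs h3
    omega

theorem minus_class (hm : 4 ≤ m) {a b : F} (hab : ∀ z₁ z₂ : F, z₁ ^ 2 + a * z₁ * z₂ + b * z₂ ^ 2 = 0 → z₁ = 0 ∧ z₂ = 0)
    {s : ℕ} (hs : s.Prime) (hs2 : s ≠ 2) (hsq : ¬ s ∣ Nat.card F)
    (hd : s ∣ Nat.card (Cfsg.POmega F (Cfsg.quadFormMinus (m - 1) F a b))) :
    eta (ee (Nat.card F) s) < m ∨ (eta (ee (Nat.card F) s) = m ∧ sg (ee (Nat.card F) s) = -1) := by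
  have h1 : s ∣ Nat.gcd 4 (Fintype.card F ^ m + 1) * Nat.card (Cfsg.POmega F (Cfsg.quadFormMinus (m - 1) F a b)) :=
    Dvd.dvd.mul_left hd _
  rw [Cfsg.Agent.S0294.result (F := F) rfl m hm a b hab, ← Nat.card_eq_fintype_card] at h1
  rcases (Nat.Prime.dvd_mul hs).1 h1 with h3 | h3
  · rcases (Nat.Prime.dvd_mul hs).1 h3 with h4 | h4
    · exact absurd (hs.dvd_of_dvd_pow h4) hsq
    · exact minus_arith Nat.card_pos (by omega) hs hs2 h4
  · left
    have := prod_arith Nat.card_pos hs h3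
    omega

theorem sp_class {s : ℕ} (hs : s.Prime) (hsq : ¬ s ∣ Nat.card F)
    (hd : s ∣ Nat.card (Cfsg.PSp m F)) : eta (ee (Nat.card F) s) ≤ m := by
  have h1 : s ∣ Nat.card (Matrix.symplecticGroup (Fin m) F) := hd.trans (Subgroup.card_quotient_dvd_card _)
  rw [Cfsg.Agent.S0245.result (F := F) rfl m, ← Nat.card_eq_fintype_card] at h1
  rcases (Nat.Prime.dvd_mul hs).1 h1 with h3 | h3
  · exact absurd (hs.dvd_of_dvd_pow h3) hsq
  · exact prod_arith Nat.card_pos hs h3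

theorem prime_dvd_card (F : Type*) [Field F] [Fintype F] :
    ∃ p : ℕ, p.Prime ∧ CharP F p ∧ ∀ s : ℕ, s.Prime → s ∣ Nat.card F → s = p := by
  obtain ⟨p, hp⟩ := CharP.exists F
  have hpp : p.Prime := CharP.char_is_prime F p
  obtain ⟨k, -, hk⟩ := FiniteField.card F p
  refine ⟨p, hpp, hp, fun s hs h => ?_⟩
  rw [Nat.card_eq_fintype_card, hk] at h
  exact (Nat.prime_dvd_prime_iff_eq hs hpp).1 (hs.dvd_of_dvd_pow h)

end classes

section groups

variable {F : Type*} [Field F] [Fintype F] {m : ℕ} {ρ : Finset ℕ}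

theorem eta_ee_pos {s : ℕ} (hs : s.Prime) (hsq : ¬ s ∣ Nat.card F) : 1 ≤ eta (ee (Nat.card F) s) :=
  eta_pos (ee_pos hs hsq)

/-- **Cocliques of the prime graph of `PSp_{2m}(q)`, through `x`.** -/
theorem sp_coclique (hm : 2 ≤ m) (hρ : ∀ r ∈ ρ, r.Prime ∧ r ∣ Nat.card (Cfsg.PSp m F))
    (hc : ∀ r ∈ ρ, ∀ s ∈ ρ, r ≠ s → ¬ ∃ z : Cfsg.PSp m F, orderOf z = r * s) {x : ℕ} (hx : x ∈ ρ)
    (hxm : wO (Nat.card F) x + 2 ≤ m) :
    ρ.card ≤ 1 + (wO (Nat.card F) x + ((m + 1) / 2 - (m - wO (Nat.card F) x + 1) / 2)) := by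
  refine (coc_bound (q := Nat.card F) (m := m) (c := 0) (adj := fun r s => ∃ z : Cfsg.PSp m F, orderOf z = r * s)
    (P := fun k => eta k ≤ m) (T := cl (m - wO (Nat.card F) x) m) (fun s hs => (hρ s hs).1)
    (fun s hs _ hsq => sp_class (hρ s hs).1 hsq (hρ s hs).2) hc (fun r s hr hs hrs h => sp_adj hm hr hs hrs h)
    (fun r s hr hs hr2 hs2 hrs hrq hsq h hk => sp_clq hm hr hs hr2 hs2 hrs hrq hsq h hk) hx hxm ?_).trans ?_
  · intro k hk h
    rw [mem_cl]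
    omega
  · have := card_cl_le (m - wO (Nat.card F) x) m
    omega

/-- **Cocliques of the prime graph of `PSp_{2m}(q)`.** -/
theorem sp_coclique' (hm : 2 ≤ m) (hρ : ∀ r ∈ ρ, r.Prime ∧ r ∣ Nat.card (Cfsg.PSp m F))
    (hc : ∀ r ∈ ρ, ∀ s ∈ ρ, r ≠ s → ¬ ∃ z : Cfsg.PSp m F, orderOf z = r * s) :
    ρ.card ≤ 2 + (m + (m + 1) / 2) := by
  obtain ⟨p, -, -, hp⟩ := prime_dvd_card F
  refine (coc_bound' (q := Nat.card F) (adj := fun r s => ∃ z : Cfsg.PSp m F, orderOf z = r * s)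
    (P := fun k => 1 ≤ eta k ∧ eta k ≤ m) (T := cl 0 m) (fun s hs => (hρ s hs).1) (p := p)
    (fun s hs h => hp s (hρ s hs).1 h)
    (fun s hs _ hsq => ⟨eta_ee_pos (hρ s hs).1 hsq, sp_class (hρ s hs).1 hsq (hρ s hs).2⟩) hc
    (fun r s hr hs hr2 hs2 hrs hrq hsq h hk => sp_clq hm hr hs hr2 hs2 hrs hrq hsq h hk.2) ?_).trans ?_
  · intro k hk
    rw [mem_cl]
    omega
  · have := card_cl_le 0 m
    omega

/-- **Cocliques of the prime graph of `PΩ_{2m+1}(q)`, through `x`.** -/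
theorem odd_coclique (h2 : (2 : F) ≠ 0) (hm : 3 ≤ m)
    (hρ : ∀ r ∈ ρ, r.Prime ∧ r ∣ Nat.card (Cfsg.POmega F (Cfsg.quadFormOdd m F)))
    (hc : ∀ r ∈ ρ, ∀ s ∈ ρ, r ≠ s → ¬ ∃ z : Cfsg.POmega F (Cfsg.quadFormOdd m F), orderOf z = r * s) {x : ℕ}
    (hx : x ∈ ρ) (hxm : wO (Nat.card F) x + 2 ≤ m) :
    ρ.card ≤ 1 + (wO (Nat.card F) x + ((m + 1) / 2 - (m - wO (Nat.card F) x + 1) / 2)) := by
  refine (coc_bound (q := Nat.card F) (m := m) (c := 0)
    (adj := fun r s => ∃ z : Cfsg.POmega F (Cfsg.quadFormOdd m F), orderOf z = r * s)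
    (P := fun k => eta k ≤ m) (T := cl (m - wO (Nat.card F) x) m) (fun s hs => (hρ s hs).1)
    (fun s hs _ hsq => odd_class h2 hm (hρ s hs).1 hsq (hρ s hs).2) hc
    (fun r s hr hs hrs h => odd_adj h2 hm hr hs hrs h)
    (fun r s hr hs hr2 hs2 hrs hrq hsq h hk => odd_clq h2 hm hr hs hr2 hs2 hrs hrq hsq h hk) hx hxm ?_).trans ?_
  · intro k hk h
    rw [mem_cl]
    omega
  · have := card_cl_le (m - wO (Nat.card F) x) m
    omega

/-- **Cocliques of the prime graph of `PΩ_{2m+1}(q)`.** -/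
theorem odd_coclique' (h2 : (2 : F) ≠ 0) (hm : 3 ≤ m)
    (hρ : ∀ r ∈ ρ, r.Prime ∧ r ∣ Nat.card (Cfsg.POmega F (Cfsg.quadFormOdd m F)))
    (hc : ∀ r ∈ ρ, ∀ s ∈ ρ, r ≠ s → ¬ ∃ z : Cfsg.POmega F (Cfsg.quadFormOdd m F), orderOf z = r * s) :
    ρ.card ≤ 2 + (m + (m + 1) / 2) := by
  obtain ⟨p, -, -, hp⟩ := prime_dvd_card F
  refine (coc_bound' (q := Nat.card F)
    (adj := fun r s => ∃ z : Cfsg.POmega F (Cfsg.quadFormOdd m F), orderOf z = r * s)
    (P := fun k => 1 ≤ eta k ∧ eta k ≤ m) (T := cl 0 m) (fun s hs => (hρ s hs).1) (p := p)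
    (fun s hs h => hp s (hρ s hs).1 h)
    (fun s hs _ hsq => ⟨eta_ee_pos (hρ s hs).1 hsq, odd_class h2 hm (hρ s hs).1 hsq (hρ s hs).2⟩) hc
    (fun r s hr hs hr2 hs2 hrs hrq hsq h hk => odd_clq h2 hm hr hs hr2 hs2 hrs hrq hsq h hk.2) ?_).trans ?_
  · intro k hk
    rw [mem_cl]
    omega
  · have := card_cl_le 0 m
    omega

/-- the top class of `PΩ⁺` -/
def topP (m : ℕ) : Finset ℕ := if Odd m then {m} else ∅

theorem mem_topP {k m : ℕ} (h1 : eta k = m) (h2 : sg k = 1) : k ∈ topP m := by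
  rw [sg] at h2
  rw [eta] at h1
  by_cases h3 : Even k
  · rw [if_pos h3] at h2
    exact absurd h2 (by norm_num)
  · rw [if_neg h3] at h1
    rw [topP, if_pos (by rw [← h1]; exact Nat.not_even_iff_odd.1 h3)]
    exact Finset.mem_singleton.2 h1

theorem card_topP (m : ℕ) : (topP m).card ≤ m % 2 := by
  rw [topP]
  split_ifs with h
  · rw [Finset.card_singleton, Nat.odd_iff.1 h]
  · exact Nat.zero_le _

theorem mem_topM {k m : ℕ} (h1 : eta k = m) (h2 : sg k = -1) : k ∈ ({2 * m} : Finset ℕ) := by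
  rw [sg] at h2
  rw [eta] at h1
  by_cases h3 : Even k
  · rw [if_pos h3] at h1
    obtain ⟨j, hj⟩ := h3
    exact Finset.mem_singleton.2 (by omega)
  · rw [if_neg h3] at h2
    exact absurd h2 (by norm_num)

/-- **Cocliques of the prime graph of `PΩ⁺_{2m}(q)`, through `x`.** -/
theorem plus_coclique (hm : 4 ≤ m) (hρ : ∀ r ∈ ρ, r.Prime ∧ r ∣ Nat.card (Cfsg.POmega F (Cfsg.quadFormPlus m F)))
    (hc : ∀ r ∈ ρ, ∀ s ∈ ρ, r ≠ s → ¬ ∃ z : Cfsg.POmega F (Cfsg.quadFormPlus m F), orderOf z = r * s) {x : ℕ}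
    (hx : x ∈ ρ) (hxm : wO (Nat.card F) x + 3 ≤ m) :
    ρ.card ≤ 1 + (wO (Nat.card F) x + (m / 2 - (m - wO (Nat.card F) x) / 2)) + m % 2 := by
  classical
  refine (coc_bound (q := Nat.card F) (m := m) (c := 1)
    (adj := fun r s => ∃ z : Cfsg.POmega F (Cfsg.quadFormPlus m F), orderOf z = r * s)
    (P := fun k => eta k < m ∨ (eta k = m ∧ sg k = 1)) (T := cl (m - 1 - wO (Nat.card F) x) (m - 1) ∪ topP m)
    (fun s hs => (hρ s hs).1)
    (fun s hs _ hsq => plus_class hm (hρ s hs).1 hsq (hρ s hs).2) hc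
    (fun r s hr hs hrs h => plus_adj hm hr hs hrs h)
    (fun r s hr hs hr2 hs2 hrs hrq hsq h hk => plus_clq hm hr hs hr2 hs2 hrs hrq hsq h hk) hx (by omega) ?_).trans ?_
  · intro k hk h
    rw [Finset.mem_union, mem_cl]
    rcases hk with hk | hk
    · left
      omega
    · exact Or.inr (mem_topP hk.1 hk.2)
  · have h1 := card_cl_le (m - 1 - wO (Nat.card F) x) (m - 1)
    have h3 := card_topP m
    have h4 := Finset.card_union_le (cl (m - 1 - wO (Nat.card F) x) (m - 1)) (topP m)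
    rw [show m - 1 + 1 = m by omega, show m - 1 - wO (Nat.card F) x + 1 = m - wO (Nat.card F) x by omega] at h1
    omega

/-- **Cocliques of the prime graph of `PΩ⁺_{2m}(q)`.** -/
theorem plus_coclique' (hm : 4 ≤ m) (hρ : ∀ r ∈ ρ, r.Prime ∧ r ∣ Nat.card (Cfsg.POmega F (Cfsg.quadFormPlus m F)))
    (hc : ∀ r ∈ ρ, ∀ s ∈ ρ, r ≠ s → ¬ ∃ z : Cfsg.POmega F (Cfsg.quadFormPlus m F), orderOf z = r * s) :
    ρ.card ≤ 1 + m + m / 2 + m % 2 := by
  classical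
  obtain ⟨p, -, -, hp⟩ := prime_dvd_card F
  refine (coc_bound' (q := Nat.card F)
    (adj := fun r s => ∃ z : Cfsg.POmega F (Cfsg.quadFormPlus m F), orderOf z = r * s)
    (P := fun k => 1 ≤ eta k ∧ (eta k < m ∨ (eta k = m ∧ sg k = 1))) (T := cl 0 (m - 1) ∪ topP m)
    (fun s hs => (hρ s hs).1) (p := p) (fun s hs h => hp s (hρ s hs).1 h)
    (fun s hs _ hsq => ⟨eta_ee_pos (hρ s hs).1 hsq, plus_class hm (hρ s hs).1 hsq (hρ s hs).2⟩) hc
    (fun r s hr hs hr2 hs2 hrs hrq hsq h hk => plus_clq hm hr hs hr2 hs2 hrs hrq hsq h hk.2) ?_).trans ?_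
  · intro k hk
    rw [Finset.mem_union, mem_cl]
    rcases hk with ⟨hk0, hk | hk⟩
    · left
      omega
    · exact Or.inr (mem_topP hk.1 hk.2)
  · have h1 := card_cl_le 0 (m - 1)
    have h3 := card_topP m
    have h4 := Finset.card_union_le (cl 0 (m - 1)) (topP m)
    rw [show m - 1 + 1 = m by omega] at h1
    omega

/-- **Cocliques of the prime graph of `PΩ⁻_{2m}(q)`, through `x`.** -/
theorem minus_coclique (hm : 4 ≤ m) {a b : F}
    (hab : ∀ z₁ z₂ : F, z₁ ^ 2 + a * z₁ * z₂ + b * z₂ ^ 2 = 0 → z₁ = 0 ∧ z₂ = 0)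
    (hρ : ∀ r ∈ ρ, r.Prime ∧ r ∣ Nat.card (Cfsg.POmega F (Cfsg.quadFormMinus (m - 1) F a b)))
    (hc : ∀ r ∈ ρ, ∀ s ∈ ρ, r ≠ s → ¬ ∃ z : Cfsg.POmega F (Cfsg.quadFormMinus (m - 1) F a b), orderOf z = r * s)
    {x : ℕ} (hx : x ∈ ρ) (hxm : wO (Nat.card F) x + 3 ≤ m) :
    ρ.card ≤ 2 + (wO (Nat.card F) x + (m / 2 - (m - wO (Nat.card F) x) / 2)) := by
  classical
  refine (coc_bound (q := Nat.card F) (m := m) (c := 1)
    (adj := fun r s => ∃ z : Cfsg.POmega F (Cfsg.quadFormMinus (m - 1) F a b), orderOf z = r * s)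
    (P := fun k => k ≠ 0 → (eta k < m ∨ (eta k = m ∧ sg k = -1)))
    (T := cl (m - 1 - wO (Nat.card F) x) (m - 1) ∪ {2 * m})
    (fun s hs => (hρ s hs).1)
    (fun s hs hs2 hsq _ => minus_class hm hab (hρ s hs).1 hs2 hsq (hρ s hs).2) hc
    (fun r s hr hs hrs h => minus_adj hm hab hr hs hrs h)
    (fun r s hr hs hr2 hs2 hrs hrq hsq h hk => minus_clq hm hab hr hs hr2 hs2 hrs hrq hsq h
      (hk (by have := ee_pos hr hrq; omega))) hx (by omega) ?_).trans ?_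
  · intro k hk h
    rw [Finset.mem_union, mem_cl]
    have hk0 : k ≠ 0 := by
      rintro rfl
      have : eta 0 = 0 := rfl
      omega
    rcases hk hk0 with hk | hk
    · left
      omega
    · exact Or.inr (mem_topM hk.1 hk.2)
  · have h1 := card_cl_le (m - 1 - wO (Nat.card F) x) (m - 1)
    have h4 := Finset.card_union_le (cl (m - 1 - wO (Nat.card F) x) (m - 1)) {2 * m}
    rw [Finset.card_singleton] at h4
    rw [show m - 1 + 1 = m by omega, show m - 1 - wO (Nat.card F) x + 1 = m - wO (Nat.card F) x by omega] at h1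
    omega

/-- **Cocliques of the prime graph of `PΩ⁻_{2m}(q)`.** -/
theorem minus_coclique' (hm : 4 ≤ m) {a b : F}
    (hab : ∀ z₁ z₂ : F, z₁ ^ 2 + a * z₁ * z₂ + b * z₂ ^ 2 = 0 → z₁ = 0 ∧ z₂ = 0)
    (hρ : ∀ r ∈ ρ, r.Prime ∧ r ∣ Nat.card (Cfsg.POmega F (Cfsg.quadFormMinus (m - 1) F a b)))
    (hc : ∀ r ∈ ρ, ∀ s ∈ ρ, r ≠ s → ¬ ∃ z : Cfsg.POmega F (Cfsg.quadFormMinus (m - 1) F a b), orderOf z = r * s) :
    ρ.card ≤ 2 + m + m / 2 := by
  classical
  obtain ⟨p, -, -, hp⟩ := prime_dvd_card F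
  refine (coc_bound' (q := Nat.card F)
    (adj := fun r s => ∃ z : Cfsg.POmega F (Cfsg.quadFormMinus (m - 1) F a b), orderOf z = r * s)
    (P := fun k => 1 ≤ eta k ∧ (eta k < m ∨ (eta k = m ∧ sg k = -1))) (T := cl 0 (m - 1) ∪ {2 * m})
    (fun s hs => (hρ s hs).1) (p := p) (fun s hs h => hp s (hρ s hs).1 h)
    (fun s hs hs2 hsq => ⟨eta_ee_pos (hρ s hs).1 hsq, minus_class hm hab (hρ s hs).1 hs2 hsq (hρ s hs).2⟩) hc
    (fun r s hr hs hr2 hs2 hrs hrq hsq h hk => minus_clq hm hab hr hs hr2 hs2 hrs hrq hsq h hk.2) ?_).trans ?_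
  · intro k hk
    rw [Finset.mem_union, mem_cl]
    rcases hk with ⟨hk0, hk | hk⟩
    · left
      omega
    · exact Or.inr (mem_topM hk.1 hk.2)
  · have h1 := card_cl_le 0 (m - 1)
    have h4 := Finset.card_union_le (cl 0 (m - 1)) {2 * m}
    rw [Finset.card_singleton] at h4
    rw [show m - 1 + 1 = m by omega] at h1
    omega

end groups

end Cfsg.Agent.H72.AdjCoc
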