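import Cfsg.Agent.H72.DFiveEs
import Cfsg.Agent.H420.LOrth
import Cfsg.Agent.S0293

/-!
# Cross elimination for `PΩ⁺_{2n}(5)`, `n ≥ 6` (helper72)

* `dvd_L_iff` : the primes of the order of `L = PΩ⁺_{2n}(5)`;
* `fd_of` : `FD n S` from the prime graph of `L`;
* `cross_raw` : `qOf g = 5 ^ f`, `f ≠ 0`, for a simple group `S` named `g`, from the fields of helper420's `SHyp L S`
  (see `DFiveSH.lean`) and `2` not adjacent to the primes of class `2 (n - 1)`.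
-/

set_option autoImplicit false

namespace Cfsg.Agent.H72.DSm

open Cfsg Cfsg.Agent.OrdDiv Cfsg.Agent.H436 Cfsg.Agent.H425.Chr
open Cfsg.Agent.H72.AdjOrth (ee ee_dvd dvd_pow_ee)
open Cfsg.Agent.H72.Five hiding chk FD OddM

universe u v

section L

variable {F : Type v} [Field F] [Fintype F] {n : ℕ}

/-- the order of `PΩ⁺_{2n}(5)` -/
theorem card_L (hF : Fintype.card F = 5) (hn : 4 ≤ n) : Nat.gcd 4 (5 ^ n - 1) *
    Nat.card (POmega F (quadFormPlus n F)) = 5 ^ (n * (n - 1)) * ((5 ^ n - 1) * prB 5 (n - 1)) := by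
  have h := S0293.result (F := F) rfl n hn
  rw [← prod_list (fun i => Fintype.card F ^ (2 * (i + 1)) - 1), hF] at h
  rw [← mul_assoc (5 ^ (n * (n - 1)))]
  exact h

theorem e5_of_dvd (hF : Fintype.card F = 5) (hn : 4 ≤ n) {r : ℕ} (hr : r.Prime) (h5 : r ≠ 5)
    (h : r ∣ Nat.card (POmega F (quadFormPlus n F))) : e5 r ≤ n ∧ ee 5 r ≠ 2 * n := by
  have h1 : r ∣ 5 ^ (n * (n - 1)) * ((5 ^ n - 1) * prB 5 (n - 1)) := by
    rw [← card_L hF hn]
    exact h.mul_left _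
  have h1 := (hr.dvd_mul.1 h1).resolve_left fun h => not_dvd_five hr h5 (hr.dvd_of_dvd_pow h)
  rcases hr.dvd_mul.1 h1 with h2 | h2
  · have h3 := ee_dvd (q := 5) (by norm_num) h2
    have h4 : r ∣ 5 ^ (2 * n) - 1 := h2.trans (by
      rw [mul_comm, pow_mul]
      exact Nat.sub_one_dvd_pow_sub_one _ _)
    refine ⟨e5_le (by omega) h4, fun h => ?_⟩
    have := Nat.le_of_dvd (by omega) h3
    omega
  · obtain ⟨i, hi, h3⟩ : ∃ i < n - 1, r ∣ 5 ^ (2 * (i + 1)) - 1 := by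
      rw [prB] at h2
      obtain ⟨s, hs, hrs⟩ := (Prime.dvd_prod_iff hr.prime).1 h2
      obtain ⟨i, hi, rfl⟩ := List.mem_map.1 hs
      exact ⟨i, List.mem_range.1 hi, hrs⟩
    refine ⟨(e5_le (by omega) h3).trans (by omega), fun h => ?_⟩
    have := Nat.le_of_dvd (by omega) (ee_dvd (q := 5) (by norm_num) h3)
    omega

theorem dvd_of_e5 (hF : Fintype.card F = 5) (hn : 4 ≤ n) {r : ℕ} (hr : r.Prime) (h2 : r ≠ 2) (h5 : r ≠ 5)
    (h : e5 r ≤ n) (h' : ee 5 r ≠ 2 * n) : r ∣ Nat.card (POmega F (quadFormPlus n F)) := by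
  refine dvd_of_num hr h2 (card_L hF hn) (Or.inr rfl) (Dvd.dvd.mul_left ?_ _)
  have h1 := e5_pos hr h5
  rcases Nat.lt_or_ge (e5 r) n with h3 | h3
  · exact ((dvd_e5 r).trans (dvd_prB (q := 5) h1 (by omega))).mul_left _
  · have h4 : ee 5 r = n := by
      have h5 : e5 r = n := by omega
      rw [e5, AdjOrth.eta] at h5
      split_ifs at h5 with h7
      · obtain ⟨k, hk⟩ := h7
        omega
      · exact h5
    have h7 := dvd_pow_ee (q := 5) (r := r) (by norm_num)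
    rw [h4] at h7
    exact h7.mul_right _

end L

section cross

variable {F : Type v} [Field F] [Fintype F] {n : ℕ} {S : Type u} [Group S]

/-- **The data of `S`.** -/
theorem fd_of (hF : Fintype.card F = 5) (hn : 4 ≤ n)
    (hpi : ∀ r : ℕ, r.Prime → r ∣ Nat.card S → r ∣ Nat.card (POmega F (quadFormPlus n F)))
    (hadj : ∀ r s : ℕ, r.Prime → s.Prime → r ≠ s → (∃ x : S, orderOf x = r * s) →
      ∃ x : POmega F (quadFormPlus n F), orderOf x = r * s)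
    (hcoc : ∀ ρ : Finset ℕ, (∀ r ∈ ρ, r.Prime) → (∀ r ∈ ρ, r ∣ Nat.card (POmega F (quadFormPlus n F))) →
      (∀ r ∈ ρ, ∀ s ∈ ρ, r ≠ s → ¬ ∃ x : POmega F (quadFormPlus n F), orderOf x = r * s) → 3 ≤ ρ.card →
      ∀ r ∈ ρ, ∀ s ∈ ρ, ¬ r ∣ Nat.card S → ¬ s ∣ Nat.card S → r = s) : Five.FD n S := by
  have key : ∀ r s : ℕ, r.Prime → s.Prime → r ≠ 2 → s ≠ 2 → r ≠ 5 → s ≠ 5 → r ≠ s →
      n < e5 r + e5 s → ¬ Five.OddM (ee 5 r) (ee 5 s) →
      ¬ ∃ x : POmega F (quadFormPlus n F), orderOf x = r * s := by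
    intro r s hr hs hr2 hs2 hr5 hs5 hrs h1 h2
    refine H420.QR.plus_nonadj (hF ▸ by decide) (by omega) hr hs hr2 hs2 hrs
      (hF ▸ not_dvd_five hr hr5) (hF ▸ not_dvd_five hs hs5) ?_ ?_
    · rw [hF]
      exact h1
    · rw [hF]
      exact h2
  refine ⟨fun r hr hd h5 => e5_of_dvd hF hn hr h5 (hpi r hr hd), ?_, ?_⟩
  · intro r s hr hs hr2 hs2 hr5 hs5 hrs h1 h2 h3 h4 hx
    exact key r s hr hs hr2 hs2 hr5 hs5 hrs h3 h4 (hadj r s hr hs hrs hx)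
  · intro ρ h3 h4 h6 r hr s hs h1 h2
    refine hcoc ρ (fun r hr => (h4 r hr).1) (fun r hr => ?_) (fun r hr s hs hrs => ?_) h3 r hr s hs h1 h2
    · obtain ⟨k1, k2, k3, k4, k5⟩ := h4 r hr
      exact dvd_of_e5 hF hn k1 k2 k3 k4 k5
    · obtain ⟨k1, k2, k3, -⟩ := h4 r hr
      obtain ⟨l1, l2, l3, -⟩ := h4 s hs
      obtain ⟨m1, m2⟩ := h6 r hr s hs hrs
      exact key r s k1 l1 k2 l2 k3 l3 hrs m1 m2

/-- **Cross elimination for `PΩ⁺_{2n}(5)`, `n ≥ 6`.** -/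
theorem cross_raw (hF : Fintype.card F = 5) (hn : 6 ≤ n)
    (hpi : ∀ r : ℕ, r.Prime → r ∣ Nat.card S → r ∣ Nat.card (POmega F (quadFormPlus n F)))
    (hadj : ∀ r s : ℕ, r.Prime → s.Prime → r ≠ s → (∃ x : S, orderOf x = r * s) →
      ∃ x : POmega F (quadFormPlus n F), orderOf x = r * s)
    (hcoc : ∀ ρ : Finset ℕ, (∀ r ∈ ρ, r.Prime) → (∀ r ∈ ρ, r ∣ Nat.card (POmega F (quadFormPlus n F))) →
      (∀ r ∈ ρ, ∀ s ∈ ρ, r ≠ s → ¬ ∃ x : POmega F (quadFormPlus n F), orderOf x = r * s) → 3 ≤ ρ.card →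
      ∀ r ∈ ρ, ∀ s ∈ ρ, ¬ r ∣ Nat.card S → ¬ s ∣ Nat.card S → r = s)
    (htwo : (Nonempty (S ≃* alternatingGroup (Fin 7)) ∨ (∃ (F : Type) (_ : Field F) (_ : Fintype F),
      Odd (Fintype.card F) ∧ Nonempty (S ≃* Matrix.ProjectiveSpecialLinearGroup (Fin 2) F))) ∨
      ∀ p : ℕ, p.Prime → p ≠ 2 → p ∣ Nat.card (POmega F (quadFormPlus n F)) →
        (¬ ∃ x : POmega F (quadFormPlus n F), orderOf x = 2 * p) → p ∣ Nat.card S)
    (h2 : n ≤ 10 → ∀ r : ℕ, r.Prime → r ≠ 2 → ee 5 r = 2 * (n - 1) →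
      ¬ ∃ x : POmega F (quadFormPlus n F), orderOf x = 2 * r)
    {g : Grp} (hg : IsNamed g S) : ∃ f, f ≠ 0 ∧ qOf g = 5 ^ f := by
  have H := fd_of hF (by omega) hpi hadj hcoc
  rcases Nat.lt_or_ge 10 n with h11 | h10
  · exact elim_eleven H h11 hg
  · refine elim_small ⟨hn, h10, fun r hr hd => mem_PD hn h10 hr (H.pi r hr hd), fun r hr => ?_⟩ H hg
    obtain ⟨k1, k2, k3⟩ := prime_RD hn h10 hr
    have h5 : r ≠ 5 := by
      rintro rfl
      rw [ee_five] at k3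
      omega
    have h6 : e5 r = n - 1 := by
      rw [e5, k3, AdjOrth.eta, if_pos (even_two_mul _), Nat.mul_div_cancel_left _ two_pos]
    exact (htwo.resolve_left (not_altL2 H hn)) r k1 k2
      (dvd_of_e5 hF (by omega) k1 k2 h5 (by omega) (by omega)) (h2 h10 r k1 k2 k3)

end cross

end Cfsg.Agent.H72.DSm
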