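import Cfsg.Agent.H420.Reduce
import Cfsg.Agent.H72.DFive

/-!
# Cross elimination for `PΩ⁺_{2n}(5)`, `n ≥ 6`, from helper420's `SHyp` (helper72)
-/

set_option autoImplicit false

namespace Cfsg.Agent.H72.DSm

open Cfsg Cfsg.Agent.OrdDiv Cfsg.Agent.H436

universe u v

/-- **Cross elimination for `PΩ⁺_{2n}(5)`, `n ≥ 6`.** -/
theorem cross {F : Type v} [Field F] [Fintype F] {n : ℕ} {S : Type u} [Group S]
    (h : H420.QR.SHyp (POmega F (quadFormPlus n F)) S) (hF : Fintype.card F = 5) (hn : 6 ≤ n)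
    (h2 : n ≤ 10 → ∀ r : ℕ, r.Prime → r ≠ 2 → AdjOrth.ee 5 r = 2 * (n - 1) →
      ¬ ∃ x : POmega F (quadFormPlus n F), orderOf x = 2 * r)
    {g : Grp} (hg : IsNamed g S) : ∃ f : ℕ, f ≠ 0 ∧ H425.Chr.qOf g = 5 ^ f :=
  cross_raw hF hn h.pi h.adj (fun ρ h1 h2 h3 => h.coc ρ ⟨h1, h2, h3⟩) h.two h2 hg

end Cfsg.Agent.H72.DSm
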