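import Cfsg.Agent.H72.D3El
import Cfsg.Agent.H420.LOrth
import Cfsg.Agent.S0293

/-!
# Cross elimination for `PΩ⁺_{2n}(3)`, `5 ≤ n ≤ 8` (helper72)

* `mem_PD_of_dvd` : the primes of the order of `L = PΩ⁺_{2n}(3)`; `nonadj_L` : non-adjacency in `L`;
* `sd_of` : `SD n S` from the prime graph of `L`;
* `cross_ge` (`6 ≤ n ≤ 8`), `cross_five` (`n = 5`): see `D3El.lean`.
-/

set_option autoImplicit false
set_option maxRecDepth 1000000
set_option exponentiation.threshold 100000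

namespace Cfsg.Agent.H72.D3

open Cfsg Cfsg.Agent.OrdDiv Cfsg.Agent.H436 Cfsg.Agent.H425.Chr
open Cfsg.Agent.H407.Engine
open Cfsg.Agent.H72.AdjOrth (ee ee_dvd dvd_pow_ee)
open Cfsg.Agent.H72.Five (dvd_of_num)
open Cfsg.Agent.H72.DSm (oddB)

universe u v

theorem ee_of_od {r K : ℕ} (hr : r.Prime) (h : od r 3 60 = K) (hK : K ≠ 0) : ee 3 r = K := by
  have h0 : od r 3 60 ≠ 0 := h ▸ hK
  obtain ⟨h1, h2⟩ := od_spec (x := r) (u := 3) (N := 60) h0
  rw [h] at h1 h2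
  have h3 := prim_of_order hr (by norm_num) (Nat.pos_of_ne_zero hK) h1 h2
  refine Nat.dvd_antisymm (ee_dvd (by norm_num) (h3.dvd dvd_rfl)) ?_
  exact (h3.dvd_iff _).1 (dvd_pow_ee (q := 3) (r := r) (by norm_num))

/-- the numerator of the order -/
def numL (n : ℕ) : ℕ := 3 ^ (n * (n - 1)) * ((3 ^ n - 1) * prB 3 (n - 1))

theorem numL_ok : ∀ n ∈ [5, 6, 7, 8], (PD n).prod ^ 200 % numL n = 0 ∧ ∀ r ∈ TL n, numL n % r = 0 := by
  decide +kernel

theorem mem_five {n : ℕ} (h5 : 5 ≤ n) (h8 : n ≤ 8) : n ∈ [5, 6, 7, 8] := by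
  simp only [List.mem_cons, List.not_mem_nil, or_false]
  omega

section L

variable {F : Type v} [Field F] [Fintype F] {n : ℕ}

theorem card_L (hF : Fintype.card F = 3) (hn : 4 ≤ n) : Nat.gcd 4 (3 ^ n - 1) *
    Nat.card (POmega F (quadFormPlus n F)) = numL n := by
  have h := S0293.result (F := F) rfl n hn
  rw [← prod_list (fun i => Fintype.card F ^ (2 * (i + 1)) - 1), hF] at h
  rw [numL, ← mul_assoc (3 ^ (n * (n - 1)))]
  exact h

theorem mem_PD_of_dvd (hF : Fintype.card F = 3) (h5 : 5 ≤ n) (h8 : n ≤ 8) {r : ℕ} (hr : r.Prime)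
    (h : r ∣ Nat.card (POmega F (quadFormPlus n F))) : r ∈ PD n := by
  have h1 : r ∣ numL n := by
    rw [← card_L hF (by omega)]
    exact h.mul_left _
  have h2 := h1.trans (Nat.dvd_of_mod_eq_zero (numL_ok n (mem_five h5 h8)).1)
  obtain ⟨p, hp, hrp⟩ := hr.prime.dvd_prod_iff.1 (hr.dvd_of_dvd_pow h2)
  rw [(Nat.prime_dvd_prime_iff_eq hr (prime_PD h5 h8 hp)).1 hrp]
  exact hp

theorem dvd_of_TL (hF : Fintype.card F = 3) (h5 : 5 ≤ n) (h8 : n ≤ 8) {r : ℕ} (h : r ∈ TL n) :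
    r ∣ Nat.card (POmega F (quadFormPlus n F)) := by
  obtain ⟨h1, h2⟩ := TL_spec h5 h8 h
  exact dvd_of_num (prime_PD h5 h8 h1) (by omega) (card_L hF (by omega)) (Or.inr rfl)
    (Nat.dvd_of_mod_eq_zero ((numL_ok n (mem_five h5 h8)).2 r h))

/-- the check of non-adjacency -/
def farB (n r s : ℕ) : Bool := Nat.blt 0 (od r 3 60) && Nat.blt 0 (od s 3 60) &&
  Nat.blt n (AdjOrth.eta (od r 3 60) + AdjOrth.eta (od s 3 60)) && !(oddB (od r 3 60) (od s 3 60)) &&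
  Nat.blt 3 r && Nat.blt 3 s && !(Nat.beq r s)

theorem nonadj_L (hF : Fintype.card F = 3) (hn : 4 ≤ n) {r s : ℕ} (hr : r.Prime) (hs : s.Prime)
    (h : farB n r s = true) : ¬ ∃ x : POmega F (quadFormPlus n F), orderOf x = r * s := by
  unfold farB at h
  simp only [Bool.and_eq_true, Bool.not_eq_true', Bool.eq_false_iff, ne_eq, Nat.beq_eq, Nat.blt_eq] at h
  obtain ⟨⟨⟨⟨⟨⟨h1, h2⟩, h3⟩, h4⟩, h5⟩, h6⟩, h7⟩ := h
  have e1 : ee 3 r = od r 3 60 := ee_of_od hr rfl h1.ne'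
  have e2 : ee 3 s = od s 3 60 := ee_of_od hs rfl h2.ne'
  have h3r : ¬ r ∣ Fintype.card F := fun hd => by
    rw [hF] at hd
    have := Nat.le_of_dvd (by norm_num) hd
    omega
  have h3s : ¬ s ∣ Fintype.card F := fun hd => by
    rw [hF] at hd
    have := Nat.le_of_dvd (by norm_num) hd
    omega
  refine H420.QR.plus_nonadj (hF ▸ by decide) (by omega) hr hs (by omega) (by omega) h7 h3r h3s ?_ ?_
  · rw [hF]
    change n < AdjOrth.eta (ee 3 r) + AdjOrth.eta (ee 3 s)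
    rw [e1, e2]
    exact h3
  · rw [hF]
    change ¬ Five.OddM (ee 3 r) (ee 3 s)
    rw [e1, e2]
    exact fun ho => h4 (DSm.OddM.oddB h1 h2 ho)

theorem farB_ok : ∀ n ∈ [5, 6, 7, 8], ∀ r ∈ TL n, ∀ s ∈ TL n, r ≠ s → farB n r s = true := by
  decide +kernel

theorem nonadj_TL (hF : Fintype.card F = 3) (h5 : 5 ≤ n) (h8 : n ≤ 8) {r s : ℕ} (hr : r ∈ TL n) (hs : s ∈ TL n)
    (hrs : r ≠ s) : ¬ ∃ x : POmega F (quadFormPlus n F), orderOf x = r * s :=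
  nonadj_L hF (by omega) (prime_PD h5 h8 (TL_spec h5 h8 hr).1) (prime_PD h5 h8 (TL_spec h5 h8 hs).1)
    (farB_ok n (mem_five h5 h8) r hr s hs hrs)

/-- `5` is not adjacent to `11` and `41` in `PΩ⁺₁₀(3)` -/
theorem nonadj_five (hF : Fintype.card F = 3) : (¬ ∃ x : POmega F (quadFormPlus 5 F), orderOf x = 5 * 11) ∧
    ¬ ∃ x : POmega F (quadFormPlus 5 F), orderOf x = 5 * 41 :=
  ⟨nonadj_L hF (by norm_num) (by norm_num) (by norm_num) (by decide +kernel),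
    nonadj_L hF (by norm_num) (by norm_num) (by norm_num) (by decide +kernel)⟩

end L

section cross

variable {F : Type v} [Field F] [Fintype F] {n : ℕ} {S : Type u} [Group S]

/-- **The data of `S`.** -/
theorem sd_of (hF : Fintype.card F = 3) (h5 : 5 ≤ n) (h8 : n ≤ 8)
    (hpi : ∀ r : ℕ, r.Prime → r ∣ Nat.card S → r ∣ Nat.card (POmega F (quadFormPlus n F)))
    (hadj : ∀ r s : ℕ, r.Prime → s.Prime → r ≠ s → (∃ x : S, orderOf x = r * s) →
      ∃ x : POmega F (quadFormPlus n F), orderOf x = r * s)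
    (hcoc : ∀ ρ : Finset ℕ, (∀ r ∈ ρ, r.Prime) → (∀ r ∈ ρ, r ∣ Nat.card (POmega F (quadFormPlus n F))) →
      (∀ r ∈ ρ, ∀ s ∈ ρ, r ≠ s → ¬ ∃ x : POmega F (quadFormPlus n F), orderOf x = r * s) → 3 ≤ ρ.card →
      ∀ r ∈ ρ, ∀ s ∈ ρ, ¬ r ∣ Nat.card S → ¬ s ∣ Nat.card S → r = s) : SD n S := by
  have hp : ∀ r ∈ TL n, r.Prime := fun r hr => prime_PD h5 h8 (TL_spec h5 h8 hr).1
  refine ⟨h5, h8, fun r hr hd => mem_PD_of_dvd hF h5 h8 hr (hpi r hr hd), ?_, ?_⟩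
  · intro r hr s hs h1 h2
    refine hcoc (TL n).toFinset (fun r hr => hp r (List.mem_toFinset.1 hr))
      (fun r hr => dvd_of_TL hF h5 h8 (List.mem_toFinset.1 hr))
      (fun r hr s hs hrs => nonadj_TL hF h5 h8 (List.mem_toFinset.1 hr) (List.mem_toFinset.1 hs) hrs) ?_
      r (List.mem_toFinset.2 hr) s (List.mem_toFinset.2 hs) h1 h2
    have h3 : ∀ n ∈ [5, 6, 7, 8], 3 ≤ (TL n).toFinset.card := by decide
    exact h3 n (mem_five h5 h8)
  · intro r hr s hs hrs hx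
    exact nonadj_TL hF h5 h8 hr hs hrs (hadj r s (hp r hr) (hp s hs) hrs hx)

end cross

end Cfsg.Agent.H72.D3
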