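import Cfsg.Agent.H425.KStep
import Cfsg.Agent.S1680
import Cfsg.Agent.S1687
import Cfsg.Agent.H72.D3
import Cfsg.Agent.H425.NoCommute
import Cfsg.Agent.H390.FactsOrth

/-!
# The sections `A₁₃, …, A₁₆`, `Suz`, `Fi₂₂` in groups with the prime graph of `PΩ⁺₁₀(3)` (helper72)

* `not_cyclic` : a faithful permutation group of degree `< p ^ a` with `p ^ a ∣ |S|` has no cyclic Sylow `p`-subgroup;
* `not_dvd_index` : a prime `t > p` not adjacent to `p` does not divide `|Q : S|` if `p ∥ |S|`, `t ∤ |S|`;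
* `kill_five` : the sections above are impossible.
-/

set_option autoImplicit false

namespace Cfsg.Agent.H72.D3

open Subgroup Cfsg

universe u

/-- the order of a permutation of prime power order is at most the degree -/
theorem perm_pow_le {α : Type*} [Fintype α] {p a : ℕ} (hp : p.Prime) (σ : Equiv.Perm α) (h : orderOf σ = p ^ a)
    (ha : a ≠ 0) : p ^ a ≤ Fintype.card α := by
  classical
  obtain ⟨b, rfl⟩ : ∃ b, a = b + 1 := ⟨a - 1, by omega⟩
  have h1 : σ ^ p ^ b ≠ 1 := by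
    intro h2
    have h3 := orderOf_dvd_of_pow_eq_one h2
    rw [h, Nat.pow_dvd_pow_iff_le_right hp.one_lt] at h3
    omega
  obtain ⟨x, hx⟩ : ∃ x, (σ ^ p ^ b) x ≠ x := by
    by_contra h2
    push Not at h2
    exact h1 (Equiv.ext h2)
  have h2 : Function.minimalPeriod σ x ∣ p ^ (b + 1) := by
    refine Function.IsPeriodicPt.minimalPeriod_dvd ?_
    change (⇑σ)^[p ^ (b + 1)] x = x
    rw [Equiv.Perm.iterate_eq_pow, ← h, pow_orderOf_eq_one]
    rfl
  have h3 : ¬ Function.minimalPeriod σ x ∣ p ^ b := by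
    intro h3
    have h4 := Function.IsPeriodicPt.trans_dvd (Function.isPeriodicPt_minimalPeriod σ x) h3
    have h5 : (⇑σ)^[p ^ b] x = x := h4
    rw [Equiv.Perm.iterate_eq_pow] at h5
    exact hx h5
  obtain ⟨k, hk, hk2⟩ := (Nat.dvd_prime_pow hp).1 h2
  have h4 : k = b + 1 := by
    by_contra hne
    exact h3 (hk2 ▸ pow_dvd_pow p (by omega))
  rw [h4] at hk2
  rw [← hk2]
  exact Function.minimalPeriod_le_card

theorem not_cyclic {S : Type*} [Group S] [Finite S] {α : Type*} [Fintype α] (φ : S →* Equiv.Perm α)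
    (hφ : Function.Injective φ) {p a : ℕ} [hp : Fact p.Prime] (h : p ^ a ∣ Nat.card S)
    (hN : Fintype.card α < p ^ a) (ha : a ≠ 0) (P : Sylow p S) : ¬ IsCyclic P := by
  intro hc
  obtain ⟨g, hg⟩ := hc.exists_generator
  have h1 : orderOf (g : S) = p ^ (Nat.card S).factorization p := by
    rw [Subgroup.orderOf_coe, orderOf_eq_card_of_forall_mem_zpowers hg, P.card_eq_multiplicity]
  have h2 : a ≤ (Nat.card S).factorization p := (hp.out.pow_dvd_iff_le_factorization Nat.card_pos.ne').1 h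
  have h3 := perm_pow_le hp.out (φ (g : S)) (by rw [orderOf_injective φ hφ, h1]) (by omega)
  have h4 := Nat.pow_le_pow_right hp.out.pos h2
  omega

theorem exists_perm {S : Type*} [Group S] [Finite S] [IsSimpleGroup S] (H : Subgroup S) (hH : 1 < H.index) :
    ∃ (φ : S →* Equiv.Perm (S ⧸ H)), Function.Injective φ := by
  refine ⟨MulAction.toPermHom S (S ⧸ H), ?_⟩
  rw [← MonoidHom.ker_eq_bot_iff]
  have h1 : (MulAction.toPermHom S (S ⧸ H)).ker = H.normalCore := by
    rw [Subgroup.normalCore_eq_ker]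
  rcases (inferInstance : (MulAction.toPermHom S (S ⧸ H)).ker.Normal).eq_bot_or_eq_top with h | h
  · exact h
  · exfalso
    have h2 : H = ⊤ := top_le_iff.1 (h ▸ h1 ▸ H.normalCore_le)
    rw [h2, Subgroup.index_top] at hH
    omega

/-- **The index.** -/
theorem not_dvd_index {Q : Type*} [Group Q] [Finite Q] {S : Subgroup Q} [S.Normal] {p t : ℕ} (hp : p.Prime)
    (ht : t.Prime) (hpt : p < t) (hd : p ∣ Nat.card S) (hd2 : ¬ p ^ 2 ∣ Nat.card S)
    (hn : ¬ ∃ x : Q, orderOf x = p * t) : ¬ t ∣ S.index := by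
  intro hi
  have := Fact.mk hp
  have := Fact.mk ht
  obtain ⟨P⟩ : Nonempty (Sylow p S) := inferInstance
  set P' : Subgroup Q := (P : Subgroup S).map S.subtype with hP'
  set N : Subgroup Q := normalizer (P' : Set Q) with hN
  have hsup : N ⊔ S = ⊤ := Sylow.normalizer_sup_eq_top P
  have hcard : Nat.card P' = p := by
    rw [hP', Subgroup.card_map_of_injective (Subgroup.subtype_injective S), P.card_eq_multiplicity]
    have h1 : 1 ≤ (Nat.card S).factorization p := (hp.dvd_iff_one_le_factorization Nat.card_pos.ne').1 hd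
    have h2 : ¬ 2 ≤ (Nat.card S).factorization p := fun h => hd2
      ((hp.pow_dvd_iff_le_factorization Nat.card_pos.ne').2 h)
    rw [show (Nat.card S).factorization p = 1 by omega, pow_one]
  have htN : t ∣ Nat.card N := by
    have h1 : S.relIndex N = S.index := by
      rw [← Subgroup.relIndex_sup_right, hsup, Subgroup.relIndex_top_right]
    have h2 : S.relIndex N ∣ Nat.card N := Subgroup.relIndex_dvd_card _ _
    rw [h1] at h2
    exact hi.trans h2
  obtain ⟨y, hy⟩ := exists_prime_orderOf_dvd_card' t htN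
  -- `y` centralizes `P'`
  have hf : (P'.normalizerMonoidHom y) = 1 := by
    have h1 : orderOf (P'.normalizerMonoidHom y) ∣ t := hy ▸ orderOf_map_dvd _ _
    rcases (Nat.dvd_prime ht).1 h1 with h2 | h2
    · exact orderOf_eq_one_iff.1 h2
    · exfalso
      have h3 : orderOf (MulAut.toPerm _ (P'.normalizerMonoidHom y)) = t := by
        rw [orderOf_injective _ (fun a b hab => MulEquiv.ext fun x => DFunLike.congr_fun hab x), h2]
      have h4 : t ∣ p.factorial := by
        have h5 := orderOf_dvd_natCard (MulAut.toPerm _ (P'.normalizerMonoidHom y))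
        rw [h3, Nat.card_perm, hcard] at h5
        exact h5
      have h5 := (Nat.Prime.dvd_factorial ht).1 h4
      omega
  obtain ⟨z, hz⟩ := exists_prime_orderOf_dvd_card' (G := P') p (by rw [hcard])
  have hcomm : Commute (z : Q) (y : Q) := by
    have h1 := congrArg Subtype.val (DFunLike.congr_fun hf z)
    have h2 : (y : Q) * (z : Q) * (y : Q)⁻¹ = (z : Q) := h1
    change (z : Q) * (y : Q) = (y : Q) * (z : Q)
    calc (z : Q) * (y : Q) = ((y : Q) * (z : Q) * (y : Q)⁻¹) * (y : Q) := by rw [h2]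
      _ = (y : Q) * (z : Q) := by group
  refine hn ⟨(z : Q) * (y : Q), ?_⟩
  rw [hcomm.orderOf_mul_eq_mul_orderOf_of_coprime, Subgroup.orderOf_coe, Subgroup.orderOf_coe, hz, hy]
  rw [Subgroup.orderOf_coe, Subgroup.orderOf_coe, hz, hy]
  exact (Nat.coprime_primes hp ht).2 hpt.ne

variable {G : Type*} [Group G] [Finite G] {K : Subgroup G} [K.Normal] {S : Subgroup (G ⧸ K)} [S.Normal]

/-- **The killer.** -/
theorem kill_core {t r : ℕ} (ht : t.Prime) (hr : r.Prime) (hrt : r < t) (ht3 : t ≠ 3) (htG : t ∣ Nat.card G)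
    (htS : ¬ t ∣ Nat.card S) (hrS : r ∣ Nat.card S) (hrS2 : ¬ r ^ 2 ∣ Nat.card S)
    (h3 : ¬ ∃ x : G, orderOf x = 3 * t) (h11 : ¬ ∃ x : G, orderOf x = r * t)
    {α : Type*} [Fintype α] (φ : S →* Equiv.Perm α) (hφ : Function.Injective φ) {a : ℕ} (h : 3 ^ a ∣ Nat.card S)
    (hN : Fintype.card α < 3 ^ a) (ha : a ≠ 0) : False := by
  have : Fact (Nat.Prime 3) := ⟨Nat.prime_three⟩
  have h1 : Nat.card G = Nat.card S * (Nat.card K * S.index) := by
    rw [Subgroup.card_eq_card_quotient_mul_card_subgroup K, Subgroup.card_eq_card_quotient_mul_card_subgroup S,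
      Subgroup.index]
    ring
  have hsec : ∀ n : ℕ, n ≠ 0 → (∃ x : G ⧸ K, orderOf x = n) → ∃ x : G, orderOf x = n := by
    rintro n hn ⟨x, hx⟩
    obtain ⟨y, hy⟩ := QuotientGroup.mk'_surjective K x
    have h2 : n ∣ orderOf y := by rw [← hx, ← hy]; exact orderOf_map_dvd _ y
    obtain ⟨k, hk⟩ := h2
    have hk0 : k ≠ 0 := by
      rintro rfl
      rw [mul_zero] at hk
      exact (orderOf_pos y).ne' hk
    refine ⟨y ^ k, ?_⟩
    rw [orderOf_pow_of_dvd hk0 ⟨n, by rw [hk, mul_comm]⟩, hk, Nat.mul_div_cancel _ (Nat.pos_of_ne_zero hk0)]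
  have h2 : ¬ t ∣ S.index := not_dvd_index hr ht hrt hrS hrS2
    (fun hx => h11 (hsec _ (Nat.mul_ne_zero hr.ne_zero ht.ne_zero) hx))
  have h4 : t ∣ Nat.card K := by
    rw [h1] at htG
    exact ((ht.dvd_mul.1 ((ht.dvd_mul.1 htG).resolve_left htS)).resolve_right h2)
  obtain ⟨P⟩ : Nonempty (Sylow 3 S) := inferInstance
  have hPn := not_cyclic φ hφ h hN ha P
  refine h3 (H425.KStep.exists_adj K Nat.prime_three ht ht3.symm (by norm_num) h4 ((P : Subgroup S).map S.subtype)
    (P.isPGroup'.map _) fun hc => hPn ?_)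
  exact ((P : Subgroup S).equivMapOfInjective S.subtype (Subgroup.subtype_injective S)).isCyclic.2 hc

/-! ### `3` is not adjacent to `41` in `PΩ⁺₁₀(3)` -/

section three

variable {F : Type*} [Field F] [Fintype F] {n : ℕ}

open Module QuadraticMap Cfsg.Agent.H436 Cfsg.Agent.LieClassical.OmegaReindex

/-- helper425's `PPart.nadj_p` -/
theorem nadj_char {p : ℕ} (hp : p.Prime) (hp2 : p ≠ 2) (hF : Fintype.card F = p) (hn : 3 ≤ n) {r : ℕ}
    (hr : Prim p (2 * (n - 1)) r) : ¬ ∃ g : POmega F (quadFormPlus n F), orderOf g = p * r := by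
  have := Fact.mk hp
  have hch : CharP F p := by
    obtain ⟨q, hq⟩ := CharP.exists F
    have hqp : Fact q.Prime := ⟨CharP.char_is_prime F q⟩
    have h3 : q ∣ Fintype.card F := (CharP.cast_eq_zero_iff F q _).1 (FiniteField.cast_card_eq_zero F)
    rw [hF] at h3
    rw [(Nat.prime_dvd_prime_iff_eq hqp.out hp).1 h3] at hq
    exact hq
  have hcard : Fintype.card (Fin n ⊕ Fin n) = 2 * n := by simp; ring
  have hD : Cfsg.Agent.H390.Lift.Data (quadPlus n F) :=
    Cfsg.Agent.H390.data_of _ quadPlus_nondegenerate (by rw [hcard]; omega)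
    (quadPlus_isotropic (by omega)) (Or.inr (by rw [hcard]; omega))
  intro hg
  have hrp : r ≠ p := by
    rintro rfl
    exact hr.not_dvd dvd_rfl
  have hro := hr.odd (by omega)
  rw [← coe_quadPlus] at hg
  obtain ⟨T, hTQ, hT⟩ := Cfsg.Agent.H390.exists_lin_of_order hD (m := p * r)
    ((hp.odd_of_ne_two hp2).mul (Nat.odd_iff.2 (by omega))) hg
  have hTQn : ∀ (j : ℕ) (u : Fin n ⊕ Fin n → F), (quadPlus n F) ((T ^ j) u) = (quadPlus n F) u := fun j => by
    induction j with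
    | zero => intro u; rfl
    | succ j ih => intro u; rw [pow_succ', Module.End.mul_apply, hTQ, ih]
  have hcomm : Commute (T ^ p) (T ^ r) := (Commute.refl T).pow_pow p r
  have hy : (T ^ p) ^ r = 1 := by rw [← pow_mul, hT]
  have hu : (T ^ r) ^ p = 1 := by rw [← pow_mul, hT, mul_comm]
  have hy1 : T ^ p ≠ 1 := by
    rw [Ne, hT]
    intro h
    have h1 := (Nat.mul_dvd_mul_iff_left hp.pos).1 (by rwa [mul_one] : p * r ∣ p * 1)
    exact hr.prime.one_lt.ne' (Nat.dvd_one.1 h1)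
  have hfin : finrank F (Fin n ⊕ Fin n → F) = 2 * (n - 1) + 2 := by
    rw [Module.finrank_fintype_fun_eq_card, hcard]
    omega
  have hle := H425.NoCommute.finrank_range_le (p := p) hr.prime hrp hcomm hy hy1 hu (fun a h => (hr.dvd_iff a).1 (by
    rwa [Nat.card_eq_fintype_card, hF] at h)) hfin (by omega)
  have h3 : T ^ r = 1 := H425.NoCommute.eq_one_of_finrank_range_le_one hp2 (quadPlus n F)
    (fun w hw => hD.nd.2 w hw) (hTQn r) hu hle
  rw [hT] at h3
  have h1 := (Nat.mul_dvd_mul_iff_right hr.prime.pos).1 (by rwa [one_mul] : p * r ∣ 1 * r)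
  exact hp.one_lt.ne' (Nat.dvd_one.1 h1)

theorem prim_41 : Prim 3 (2 * (5 - 1)) 41 := by
  have h := H407.Engine.od_spec (x := 41) (u := 3) (N := 60) (by decide +kernel)
  have h2 : H407.Engine.od 41 3 60 = 8 := by decide +kernel
  rw [h2] at h
  exact H407.Engine.prim_of_order (by norm_num) (by norm_num) (by norm_num) h.1 h.2

/-- **The sections `A₁₃, …, A₁₆`, `Suz`, `Fi₂₂`.** -/
theorem kill_five [IsSimpleGroup S] (hF : Fintype.card F = 3)
    (hL1 : ∀ r : ℕ, r.Prime → (r ∣ Nat.card (POmega F (quadFormPlus 5 F)) ↔ r ∣ Nat.card G))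
    (hL2 : ∀ r s : ℕ, r.Prime → s.Prime → r ≠ s → ((∃ x : POmega F (quadFormPlus 5 F), orderOf x = r * s) ↔
      (∃ y : G, orderOf y = r * s)))
    (h41 : ¬ 41 ∣ Nat.card S) (h : (∃ m, 13 ≤ m ∧ m ≤ 16 ∧ Nonempty (S ≃* alternatingGroup (Fin m))) ∨
      (Spor.IsoSuz S ∧ Nat.card S = 448345497600) ∨ (Spor.IsoFi22 S ∧ Nat.card S = 64561751654400)) : False := by
  have p41 : Nat.Prime 41 := by norm_num
  have p11 : Nat.Prime 11 := by norm_num
  have hG : 41 ∣ Nat.card G := (hL1 41 p41).1 (dvd_of_TL (n := 5) hF (by norm_num) (by norm_num) (by decide))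
  have h3 : ¬ ∃ x : G, orderOf x = 3 * 41 := fun hx =>
    nadj_char (n := 5) Nat.prime_three (by norm_num) hF (by norm_num) prim_41
      ((hL2 3 41 Nat.prime_three p41 (by norm_num)).2 hx)
  have h11 : ¬ ∃ x : G, orderOf x = 11 * 41 := fun hx =>
    nonadj_TL (n := 5) hF (by norm_num) (by norm_num) (by decide) (by decide) (by norm_num)
      ((hL2 11 41 p11 p41 (by norm_num)).2 hx)
  rcases h with ⟨m, hm, hm2, ⟨e⟩⟩ | ⟨⟨e⟩, hc⟩ | ⟨⟨e⟩, hc⟩
  · have hc : Nat.card S * 2 = m.factorial := by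
      have h1 : Nontrivial (Fin m) := Fin.nontrivial_iff_two_le.2 (by omega)
      have h2 := two_mul_nat_card_alternatingGroup (α := Fin m)
      rw [Nat.card_perm, Nat.card_fin] at h2
      rw [Nat.card_congr e.toEquiv, mul_comm, h2]
    have hd : ∀ k : ℕ, k * 2 ∣ m.factorial → k ∣ Nat.card S := fun k hk => by
      rw [← hc] at hk
      exact Nat.dvd_of_mul_dvd_mul_right (by norm_num) hk
    refine kill_core p41 p11 (by norm_num) (by norm_num) hG h41 (hd 11 ?_) (fun h => ?_) h3 h11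
      (((alternatingGroup (Fin m)).subtype).comp e.toMonoidHom)
      ((Subgroup.subtype_injective _).comp e.injective) (a := 3) (hd _ ?_) ?_ (by norm_num)
    · interval_cases m <;> decide
    · have h2 := (h.trans (Dvd.intro _ rfl : Nat.card S ∣ Nat.card S * 2))
      rw [hc] at h2
      interval_cases m <;> revert h2 <;> decide
    · interval_cases m <;> decide
    · rw [Fintype.card_fin]
      norm_num
      omega
  · obtain ⟨h1, -⟩ := S1680.result
    obtain ⟨N, hN⟩ : ∃ N : Subgroup S, N.index = 1782 :=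
      ⟨Subgroup.comap e.toMonoidHom _, (Subgroup.index_comap_of_surjective _ e.surjective).trans h1⟩
    obtain ⟨φ, hφ⟩ := exists_perm N (by rw [hN]; norm_num)
    have := Fintype.ofFinite (S ⧸ N)
    refine kill_core p41 p11 (by norm_num) (by norm_num) hG h41 ?_ ?_ h3 h11 φ hφ (a := 7) ?_ ?_ (by norm_num)
    · rw [hc]; decide +kernel
    · rw [hc]; decide +kernel
    · rw [hc]; decide +kernel
    · rw [← Nat.card_eq_fintype_card]
      change N.index < _
      rw [hN]
      norm_num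
  · obtain ⟨h1, -⟩ := S1687.result
    obtain ⟨N, hN⟩ : ∃ N : Subgroup S, N.index = 3510 :=
      ⟨Subgroup.comap e.toMonoidHom _, (Subgroup.index_comap_of_surjective _ e.surjective).trans h1⟩
    obtain ⟨φ, hφ⟩ := exists_perm N (by rw [hN]; norm_num)
    have := Fintype.ofFinite (S ⧸ N)
    refine kill_core p41 p11 (by norm_num) (by norm_num) hG h41 ?_ ?_ h3 h11 φ hφ (a := 9) ?_ ?_ (by norm_num)
    · rw [hc]; decide +kernel
    · rw [hc]; decide +kernel
    · rw [hc]; decide +kernel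
    · rw [← Nat.card_eq_fintype_card]
      change N.index < _
      rw [hN]
      norm_num

end three

/-! ### the theorems -/

section final

open Cfsg.Agent.OrdDiv Cfsg.Agent.H436 Cfsg.Agent.H425.Chr

universe v

/-- **Cross elimination for `PΩ⁺_{2n}(3)`, `6 ≤ n ≤ 8`**, raw form. -/
theorem cross_ge {F : Type v} [Field F] [Fintype F] {n : ℕ} {S : Type u} [Group S] (hF : Fintype.card F = 3)
    (h6 : 6 ≤ n) (h8 : n ≤ 8)
    (hpi : ∀ r : ℕ, r.Prime → r ∣ Nat.card S → r ∣ Nat.card (POmega F (quadFormPlus n F)))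
    (hadj : ∀ r s : ℕ, r.Prime → s.Prime → r ≠ s → (∃ x : S, orderOf x = r * s) →
      ∃ x : POmega F (quadFormPlus n F), orderOf x = r * s)
    (hcoc : ∀ ρ : Finset ℕ, (∀ r ∈ ρ, r.Prime) → (∀ r ∈ ρ, r ∣ Nat.card (POmega F (quadFormPlus n F))) →
      (∀ r ∈ ρ, ∀ s ∈ ρ, r ≠ s → ¬ ∃ x : POmega F (quadFormPlus n F), orderOf x = r * s) → 3 ≤ ρ.card →
      ∀ r ∈ ρ, ∀ s ∈ ρ, ¬ r ∣ Nat.card S → ¬ s ∣ Nat.card S → r = s)
    {g : Grp} (hg : IsNamed g S) : ∃ f, f ≠ 0 ∧ qOf g = 3 ^ f :=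
  (sd_of hF (by omega) h8 hpi hadj hcoc).elim_ge h6 hg

/-- **Cross elimination for `PΩ⁺₁₀(3)`**, raw form. -/
theorem cross_five {F : Type v} [Field F] [Fintype F] {G : Type u} [Group G] [Finite G] {K : Subgroup G} [K.Normal]
    {S : Subgroup (G ⧸ K)} [S.Normal] [IsSimpleGroup S] (hF : Fintype.card F = 3)
    (hL1 : ∀ r : ℕ, r.Prime → (r ∣ Nat.card (POmega F (quadFormPlus 5 F)) ↔ r ∣ Nat.card G))
    (hL2 : ∀ r s : ℕ, r.Prime → s.Prime → r ≠ s → ((∃ x : POmega F (quadFormPlus 5 F), orderOf x = r * s) ↔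
      (∃ y : G, orderOf y = r * s)))
    (hpi : ∀ r : ℕ, r.Prime → r ∣ Nat.card S → r ∣ Nat.card (POmega F (quadFormPlus 5 F)))
    (hadj : ∀ r s : ℕ, r.Prime → s.Prime → r ≠ s → (∃ x : S, orderOf x = r * s) →
      ∃ x : POmega F (quadFormPlus 5 F), orderOf x = r * s)
    (hcoc : ∀ ρ : Finset ℕ, (∀ r ∈ ρ, r.Prime) → (∀ r ∈ ρ, r ∣ Nat.card (POmega F (quadFormPlus 5 F))) →
      (∀ r ∈ ρ, ∀ s ∈ ρ, r ≠ s → ¬ ∃ x : POmega F (quadFormPlus 5 F), orderOf x = r * s) → 3 ≤ ρ.card →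
      ∀ r ∈ ρ, ∀ s ∈ ρ, ¬ r ∣ Nat.card S → ¬ s ∣ Nat.card S → r = s)
    {g : Grp} (hg : IsNamed g S) : ∃ f, f ≠ 0 ∧ qOf g = 3 ^ f := by
  rcases (sd_of hF (by norm_num) (by norm_num) hpi hadj hcoc).elim_five hg with h | ⟨h1, h2⟩
  · exact h
  · exact (kill_five hF hL1 hL2 h1 h2).elim

end final

end Cfsg.Agent.H72.D3
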