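import Cfsg.Agent.H420.Reduce
import Cfsg.Agent.H72.D3Kill

/-!
# Cross elimination for `PΩ⁺_{2n}(3)`, `5 ≤ n ≤ 8`, from helper420's `SHyp` and `Red` (helper72)
-/

set_option autoImplicit false

namespace Cfsg.Agent.H72.D3

open Cfsg Cfsg.Agent.OrdDiv Cfsg.Agent.H436

universe u v

/-- **Cross elimination for `PΩ⁺_{2n}(3)`, `6 ≤ n ≤ 8`.** -/
theorem small_ge {F : Type v} [Field F] [Fintype F] {n : ℕ} {S : Type u} [Group S]
    (h : H420.QR.SHyp (POmega F (quadFormPlus n F)) S) (hF : Fintype.card F = 3) (h6 : 6 ≤ n) (h8 : n ≤ 8)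
    {g : Grp} (hg : IsNamed g S) : ∃ f : ℕ, f ≠ 0 ∧ H425.Chr.qOf g = 3 ^ f :=
  cross_ge hF h6 h8 h.pi h.adj (fun ρ h1 h2 h3 => h.coc ρ ⟨h1, h2, h3⟩) hg

/-- **Cross elimination for `PΩ⁺₁₀(3)`.** -/
theorem small_five {F : Type v} [Field F] [Fintype F] {G : Type u} [Group G] [Finite G] {K : Subgroup G} [K.Normal]
    {S : Subgroup (G ⧸ K)} [S.Normal] (R : H420.QR.Red G K S) (hF : Fintype.card F = 3)
    (hL : (∀ r : ℕ, r.Prime → (r ∣ Nat.card (POmega F (quadFormPlus 5 F)) ↔ r ∣ Nat.card G)) ∧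
      (∀ r s : ℕ, r.Prime → s.Prime → r ≠ s → ((∃ x : POmega F (quadFormPlus 5 F), orderOf x = r * s) ↔
        (∃ y : G, orderOf y = r * s))))
    {g : Grp} (hg : IsNamed g S) : ∃ f : ℕ, f ≠ 0 ∧ H425.Chr.qOf g = 3 ^ f := by
  have := R.simple
  have h := R.sHyp hL
  exact cross_five hF hL.1 hL.2 h.pi h.adj (fun ρ h1 h2 h3 => h.coc ρ ⟨h1, h2, h3⟩) hg

/-- **Cross elimination for `PΩ⁺_{2n}(3)`, `5 ≤ n ≤ 8`.** -/
theorem small_red {F : Type v} [Field F] [Fintype F] {n : ℕ} {G : Type u} [Group G] [Finite G] {K : Subgroup G}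
    [K.Normal] {S : Subgroup (G ⧸ K)} [S.Normal] (R : H420.QR.Red G K S) (hF : Fintype.card F = 3) (h5 : 5 ≤ n)
    (h8 : n ≤ 8) (hL : (∀ r : ℕ, r.Prime → (r ∣ Nat.card (POmega F (quadFormPlus n F)) ↔ r ∣ Nat.card G)) ∧
      (∀ r s : ℕ, r.Prime → s.Prime → r ≠ s → ((∃ x : POmega F (quadFormPlus n F), orderOf x = r * s) ↔
        (∃ y : G, orderOf y = r * s))))
    {g : Grp} (hg : IsNamed g S) : ∃ f : ℕ, f ≠ 0 ∧ H425.Chr.qOf g = 3 ^ f := by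
  rcases Nat.lt_or_ge n 6 with h | h
  · obtain rfl : n = 5 := by omega
    exact small_five R hF hL hg
  · exact small_ge (R.sHyp hL) hF h h8 hg

end Cfsg.Agent.H72.D3
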