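import Cfsg.Agent.H72.D3Ex

/-!
# Cross elimination for `PΩ⁺_{2n}(3)`, `5 ≤ n ≤ 8`: all groups (helper72)

* `elim_ge` : `6 ≤ n`; `elim_five` : `n = 5`, with the exceptions `A₁₃, …, A₁₆`, `Suz`, `Fi₂₂`, where `41` does not divide
  the order.
-/

set_option autoImplicit false
set_option maxRecDepth 1000000

namespace Cfsg.Agent.H72.D3

open Cfsg Cfsg.Agent.OrdDiv Cfsg.Agent.H436 Cfsg.Agent.H425.Chr
open Cfsg.Agent.H407.Engine Cfsg.Agent.H407.Exc Cfsg.Agent.H407.Fam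
open Cfsg.Agent.H72.DSm (pr_of psl_two_coc' psl_two_dvd)
open Cfsg.Agent.H72.Five (prime_of_pchk pchk alt_mem)
open Cfsg.Agent.H72.WGr (OCoc)

universe u

section main

variable {n : ℕ} {S : Type u} [Group S] {q : ℕ}

theorem TL_spec {n : ℕ} (h5 : 5 ≤ n) (h8 : n ≤ 8) {r : ℕ} (h : r ∈ TL n) : r ∈ PD n ∧ 3 < r := by
  have h1 : ∀ n ∈ [5, 6, 7, 8], ∀ r ∈ TL n, r ∈ PD n ∧ 3 < r := by decide
  exact h1 n (by simp only [List.mem_cons, List.not_mem_nil, or_false]; omega) r h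

/-- the coclique of `S` -/
theorem SD.coc (H : SD n S) : OCoc S ((TL n).toFinset.filter fun r => r ∣ Nat.card S) ∧
    (TL n).toFinset.card ≤ ((TL n).toFinset.filter fun r => r ∣ Nat.card S).card + 1 := by
  classical
  have hT : ∀ r ∈ (TL n).toFinset.filter fun r => r ∣ Nat.card S, r ∈ TL n := fun r hr =>
    List.mem_toFinset.1 (Finset.mem_filter.1 hr).1
  refine ⟨⟨fun r hr => prime_PD H.h5 H.h8 (TL_spec H.h5 H.h8 (hT r hr)).1, fun r hr => (Finset.mem_filter.1 hr).2,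
    fun r hr h2 => ?_, fun r hr s hs hrs => H.nadj r (hT r hr) s (hT s hs) hrs⟩, ?_⟩
  · have := (TL_spec H.h5 H.h8 (hT r hr)).2
    omega
  · have h1 := Finset.card_filter_add_card_filter_not (s := (TL n).toFinset) (fun r => r ∣ Nat.card S)
    have h2 : ((TL n).toFinset.filter fun r => ¬ r ∣ Nat.card S).card ≤ 1 := by
      rw [Finset.card_le_one]
      intro a ha b hb
      rw [Finset.mem_filter, List.mem_toFinset] at ha hb
      exact H.hT a ha.1 b hb.1 ha.2 hb.2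
    omega

/-! ### alternating groups -/

theorem SD.alt_le {m : ℕ} (H : SD n S) (e : S ≃* alternatingGroup (Fin m)) : m ≤ 16 := by
  by_contra hlt
  have h1 : 17 ∣ Nat.card S := by
    rw [Nat.card_congr e.toEquiv]
    exact alt_mem (by norm_num) (by norm_num) (by omega)
  have h2 := PD_sub H.h5 H.h8 (H.hP 17 (by norm_num) h1)
  exact absurd h2 (by decide)

theorem SD.alt_not {m : ℕ} (H : SD n S) (e : S ≃* alternatingGroup (Fin m)) {x : ℕ} (hx : x.Prime) (h : 16 < x) :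
    ¬ x ∣ Nat.card S := by
  intro hd
  rw [Nat.card_congr e.toEquiv] at hd
  have h1 := H376.Coc.alt_dvd_le hx hd
  have h2 := H.alt_le e
  omega

theorem SD.alt {m : ℕ} (H : SD n S) (h6 : 6 ≤ n) (e : S ≃* alternatingGroup (Fin m)) : False := by
  have h41 := H.alt_not e (x := 41) (by norm_num) (by norm_num)
  have h61 := H.alt_not e (x := 61) (by norm_num) (by norm_num)
  have h73 := H.alt_not e (x := 73) (by norm_num) (by norm_num)
  obtain ⟨h5, h8, -, hT, -⟩ := H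
  interval_cases n
  · exact absurd (hT 41 (by decide) 61 (by decide) h41 h61) (by decide)
  · exact absurd (hT 73 (by decide) 61 (by decide) h73 h61) (by decide)
  · exact absurd (hT 73 (by decide) 61 (by decide) h73 h61) (by decide)

theorem SD.alt5 {m : ℕ} (H : SD 5 S) (e : S ≃* alternatingGroup (Fin m)) : ¬ 41 ∣ Nat.card S ∧ 13 ≤ m ∧ m ≤ 16 := by
  have h41 := H.alt_not e (x := 41) (by norm_num) (by norm_num)
  refine ⟨h41, ?_, H.alt_le e⟩
  have h13 : 13 ∣ Nat.card S := by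
    by_contra h
    exact absurd (H.hT 41 (by decide) 13 (by decide) h41 h) (by decide)
  rw [Nat.card_congr e.toEquiv] at h13
  exact H376.Coc.alt_dvd_le (by norm_num) h13

/-! ### sporadic groups -/

/-- the test of the order of a sporadic group -/
def sporB (n N : ℕ) : Bool :=
  ([17, 19, 23, 29, 31, 37, 43, 47, 59, 67, 71].any fun z => Nat.beq (N % z) 0) ||
    (TL n).any fun r => (TL n).any fun s => !(Nat.beq r s) && !(Nat.beq (N % r) 0) && !(Nat.beq (N % s) 0)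

theorem SD.sporB (H : SD n S) (h : sporB n (Nat.card S) = true) : False := by
  unfold D3.sporB at h
  rw [Bool.or_eq_true, List.any_eq_true, List.any_eq_true] at h
  rcases h with ⟨z, hz, h⟩ | ⟨r, hr, h⟩
  · rw [Nat.beq_eq] at h
    have h1 := PD_sub H.h5 H.h8 (H.hP z (prime_of_pchk (l := [17, 19, 23, 29, 31, 37, 43, 47, 59, 67, 71])
      (by decide +kernel) hz) (Nat.dvd_of_mod_eq_zero h))
    have h2 : ∀ z ∈ [17, 19, 23, 29, 31, 37, 43, 47, 59, 67, 71], z ∉ PE := by decide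
    exact h2 z hz h1
  · rw [List.any_eq_true] at h
    obtain ⟨s, hs, h⟩ := h
    simp only [Bool.and_eq_true, Bool.not_eq_true', Bool.eq_false_iff, ne_eq, Nat.beq_eq] at h
    obtain ⟨⟨h1, h2⟩, h3⟩ := h
    exact h1 (H.hT r hr s hs (fun hd => h2 (Nat.mod_eq_zero_of_dvd hd)) (fun hd => h3 (Nat.mod_eq_zero_of_dvd hd)))

theorem spor_ok : ∀ n ∈ [6, 7, 8], ∀ x ∈ spor, sporB n x.2 = true := by decide +kernel

theorem spor_ok5 : ∀ x ∈ spor, sporB 5 x.2 = true ∨ (x.2 % 41 ≠ 0 ∧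
    ((x.1 = .suz ∧ x.2 = 448345497600) ∨ (x.1 = .fi22 ∧ x.2 = 64561751654400))) := by
  decide +kernel

/-! ### `PSL₂` -/

/-- the test -/
def chkP2 (P T X : List ℕ) (p : ℕ) : Bool :=
  (Nat.blt (T.filter fun r => !(Nat.beq r p) && Nat.beq (p ^ 2 % r) 1).length 2) && P.all fun x => Nat.beq x p ||
    (Nat.blt 0 (od x p 60) && (Nat.blt (od x p 60) 4 || Nat.beq (od x p 60 % 2) 1 ||
      (X.any fun y => !P.contains y && Nat.beq (p ^ od x p 60 % y) 1) ||
      Nat.blt (T.filter fun r => !(Nat.beq r p) && Nat.beq (p ^ od x p 60 % r) 1).length 2))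

theorem mod_one_of_dvd {r N : ℕ} (hr : 1 < r) (hN : 1 ≤ N) (h : r ∣ N - 1) : N % r = 1 := by
  obtain ⟨k, hk⟩ := h
  have h4 : N = 1 + r * k := by omega
  rw [h4, Nat.add_mul_mod_self_left]
  exact Nat.mod_eq_of_lt hr

theorem dvd_of_mod_one {r N : ℕ} (h : N % r = 1) : r ∣ N - 1 := by
  have h1 := Nat.div_add_mod N r
  rw [h] at h1
  exact ⟨N / r, by omega⟩

theorem psl_two_aux {F : Type} [Field F] [Fintype F] {P T X : List ℕ} {p f : ℕ} (hp : p.Prime) (hf : f ≠ 0)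
    (hq : Fintype.card F = p ^ f) (hchk : chkP2 P T X p = true) (hX : ∀ y ∈ X, y.Prime ∧ y ≠ 2)
    (hP : ∀ r, r.Prime → r ∣ Nat.card (Matrix.ProjectiveSpecialLinearGroup (Fin 2) F) → r ∈ P)
    (h2p : p ≠ 2) {D : Finset ℕ} (hD : ∀ r ∈ D, r ∈ T ∧ r ≠ p ∧ r.Prime ∧ r ∣ (p ^ f) ^ 2 - 1) (hD2 : 2 ≤ D.card) :
    False := by
  classical
  unfold chkP2 at hchk
  rw [Bool.and_eq_true, Nat.blt_eq] at hchk
  obtain ⟨hc1, hc2⟩ := hchk
  have hfew : ∀ N : ℕ, 1 ≤ N → (∀ r ∈ D, r ∣ N - 1) →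
      ¬ (T.filter fun r => !(Nat.beq r p) && Nat.beq (N % r) 1).length < 2 := by
    intro N hN h hlt
    have h1 : D ⊆ (T.filter fun r => !(Nat.beq r p) && Nat.beq (N % r) 1).toFinset := by
      intro r hr
      rw [List.mem_toFinset, List.mem_filter]
      refine ⟨(hD r hr).1, ?_⟩
      rw [Bool.and_eq_true, Nat.beq_eq, Bool.not_eq_true', Bool.eq_false_iff, ne_eq, Nat.beq_eq]
      exact ⟨(hD r hr).2.1, mod_one_of_dvd (hD r hr).2.2.1.one_lt hN (h r hr)⟩
    have h2 := Finset.card_le_card h1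
    have h3 := List.toFinset_card_le (T.filter fun r => !(Nat.beq r p) && Nat.beq (N % r) 1)
    omega
  rcases Nat.lt_or_ge f 2 with h2 | h2
  · have hf1 : f = 1 := by omega
    subst hf1
    refine hfew (p ^ 2) (Nat.one_le_pow _ _ hp.pos) (fun r hr => ?_) hc1
    have := (hD r hr).2.2.2
    rwa [pow_one] at this
  · obtain ⟨x, hx⟩ := exists_prim (q := p) (e := 2 * f) hp.two_le (by omega) (fun h => h2p h.1)
    have hxd : x ∣ (p ^ f) ^ 2 - 1 := by
      have := hx.dvd (m := 2 * f) dvd_rfl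
      rwa [mul_comm, pow_mul] at this
    have hx2 : x ≠ 2 := by
      rintro rfl
      have h3 : (2 : ℕ) ∣ p ^ 1 - 1 := by
        have := hp.eq_two_or_odd
        rw [pow_one]
        omega
      have := Nat.le_of_dvd one_pos ((hx.dvd_iff 1).1 h3)
      omega
    have hxP : x ∈ P := hP x hx.prime (psl_two_dvd hx.prime hx2 (by rw [hq]; exact hxd))
    have h3 := List.all_eq_true.1 hc2 x hxP
    simp only [Bool.or_eq_true, Bool.and_eq_true, Nat.beq_eq, Nat.blt_eq, List.any_eq_true, Bool.not_eq_true'] at h3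
    rcases h3 with h3 | ⟨h3, h4⟩
    · exact hx.not_dvd (h3 ▸ dvd_rfl)
    · obtain ⟨h5, h6⟩ := od_spec (x := x) (u := p) (N := 60) h3.ne'
      have h7 : Prim p (od x p 60) x := prim_of_order hx.prime hp.one_lt.le h3 h5 h6
      have h8 : od x p 60 = 2 * f := h7.unique hx
      rw [h8] at h4
      rcases h4 with ((h4 | h4) | ⟨y, hy, h9, h10⟩) | h4
      · omega
      · omega
      · have h11 : y ∣ (p ^ f) ^ 2 - 1 := by
          have := dvd_of_mod_one h10
          rwa [mul_comm, pow_mul] at this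
        have h12 := hP y (hX y hy).1 (psl_two_dvd (hX y hy).1 (hX y hy).2 (by rw [hq]; exact h11))
        rw [List.contains_eq_mem, decide_eq_false_iff_not] at h9
        exact h9 h12
      · refine hfew (p ^ (2 * f)) (Nat.one_le_pow _ _ hp.pos) (fun r hr => ?_) h4
        rw [mul_comm, pow_mul]
        exact (hD r hr).2.2.2

theorem psl_two_num {F : Type} [Field F] [Fintype F] {r : ℕ} (hr : r.Prime) (hrq : ¬ r ∣ Fintype.card F)
    (h : r ∣ Nat.card (Matrix.ProjectiveSpecialLinearGroup (Fin 2) F)) : r ∣ Fintype.card F ^ 2 - 1 := by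
  set q := Fintype.card F with hqdef
  have hcard := H436.psl_eq (F := F) (n := 2) le_rfl
  have h1 : r ∣ glN 2 q := by
    have h2 : fPSL.den 2 q * Nat.card (Matrix.ProjectiveSpecialLinearGroup (Fin 2) F) = glN 2 q := hcard
    rw [← h2]
    exact Dvd.dvd.mul_left h _
  have h2 : glN 2 q = (q ^ 2 - 1) * (q * (q - 1)) := by
    have h3 : glN 2 q = (q ^ 2 - q ^ 0) * ((q ^ 2 - q ^ 1) * 1) := rfl
    have h5 : q ^ 2 - q = q * (q - 1) := by
      rw [Nat.mul_sub, mul_one, sq]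
    rw [h3, pow_zero, pow_one, mul_one, h5]
  rw [h2] at h1
  rcases (hr.dvd_mul).1 h1 with h3 | h3
  · exact h3
  · rcases (hr.dvd_mul).1 h3 with h3 | h3
    · exact absurd h3 hrq
    · refine h3.trans ?_
      have := Nat.sub_one_dvd_pow_sub_one q 2
      exact this

/-- the primes for the test of `PSL₂` -/
def XP : List ℕ := [17, 19, 29, 31, 191, 2411, 3221, 4111]

theorem chkP2_ok : ∀ n ∈ [5, 6], ∀ p ∈ TL n, chkP2 (PD n) (TL n) XP p = true := by decide +kernel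

theorem TL_card : (TL 5).toFinset.card = 4 ∧ (TL 6).toFinset.card = 4 ∧ (TL 7).toFinset.card = 5 ∧
    (TL 8).toFinset.card = 5 := by decide

theorem SD.psl_two (H : SD n S) {F : Type} [Field F] [Fintype F]
    (e : S ≃* Matrix.ProjectiveSpecialLinearGroup (Fin 2) F) : False := by
  classical
  obtain ⟨hc, hcard⟩ := H.coc
  obtain ⟨t5, t6, t7, t8⟩ := TL_card
  set C := (TL n).toFinset.filter fun r => r ∣ Nat.card S with hC
  have hc' : OCoc (Matrix.ProjectiveSpecialLinearGroup (Fin 2) F) C := hc.congr e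
  have hCT : ∀ r ∈ C, r ∈ TL n := fun r hr => List.mem_toFinset.1 (Finset.mem_filter.1 hr).1
  obtain ⟨p, hcp⟩ := CharP.exists F
  obtain ⟨k, hp, hk⟩ := FiniteField.card F p
  set f : ℕ := (k : ℕ) with hf
  have hf0 : f ≠ 0 := k.pos.ne'
  -- the members prime to `q`
  have hdvd : ∀ r, r.Prime → (r ∣ Fintype.card F ↔ r = p) := by
    intro r hr
    rw [hk]
    exact ⟨fun h => (Nat.prime_dvd_prime_iff_eq hr hp).1 (hr.dvd_of_dvd_pow h), fun h => h ▸ dvd_pow_self _ hf0⟩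
  have h1 : (C.erase p).card ≤ 2 := by
    refine psl_two_coc' (F := F) (C := C.erase p) ⟨fun r hr => hc'.prime r (Finset.mem_of_mem_erase hr),
      fun r hr => hc'.dvd r (Finset.mem_of_mem_erase hr), fun r hr => hc'.ne2 r (Finset.mem_of_mem_erase hr),
      fun r hr s hs => hc'.nadj r (Finset.mem_of_mem_erase hr) s (Finset.mem_of_mem_erase hs)⟩ ?_
    intro r hr
    rw [hdvd r (hc'.prime r (Finset.mem_of_mem_erase hr))]
    exact Finset.ne_of_mem_erase hr
  have hdata : 3 ≤ C.card ∧ (7 ≤ n → 4 ≤ C.card) := by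
    have h5 := H.h5
    have h8 := H.h8
    have hn : n = 5 ∨ n = 6 ∨ n = 7 ∨ n = 8 := by omega
    rcases hn with rfl | rfl | rfl | rfl <;> omega
  have h3 := Finset.pred_card_le_card_erase (s := C) (a := p)
  have h7 : ¬ 7 ≤ n := fun h => by
    have := hdata.2 h
    omega
  have hpC : p ∈ C := by
    by_contra h
    rw [Finset.erase_eq_of_notMem h] at h1
    omega
  have hn : n ∈ [5, 6] := by
    have := H.h5
    simp only [List.mem_cons, List.not_mem_nil, or_false]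
    omega
  have hX : ∀ y ∈ XP, y.Prime ∧ y ≠ 2 := by
    intro y hy
    have h9 : ∀ y ∈ XP, y ≠ 2 := by decide
    exact ⟨prime_of_pchk (l := XP) (by decide +kernel) hy, h9 y hy⟩
  refine psl_two_aux (F := F) (P := PD n) (T := TL n) (X := XP) (D := C.erase p) hp hf0 hk
    (chkP2_ok n hn p (hCT p hpC)) hX (fun r hr hd => H.hP r hr (by rwa [Nat.card_congr e.toEquiv])) (hc'.ne2 p hpC) ?_
    (by have := hdata.1; omega)
  intro r hr
  have hrC := Finset.mem_of_mem_erase hr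
  have hrp := hc'.prime r hrC
  refine ⟨hCT r hrC, Finset.ne_of_mem_erase hr, hrp, ?_⟩
  rw [← hk]
  refine psl_two_num hrp ?_ (hc'.dvd r hrC)
  rw [hdvd r hrp]
  exact Finset.ne_of_mem_erase hr

/-! ### the end -/

/-- the common part -/
theorem SD.elim (H : SD n S) {g : Grp} (hg : IsNamed g S) :
    (∃ f, f ≠ 0 ∧ qOf g = 3 ^ f) ∨ (∃ m, g = .alt m) ∨ ∃ x ∈ spor, x.1 = g ∧ Nat.card S = x.2 := by
  have h5 := H.h5
  obtain ⟨R, hR, hRS⟩ := H.exists_R
  have key : ∀ q : ℕ, IsPrimePow q → qOf g = q → (∀ p f : ℕ, p.Prime → f ≠ 0 → q = p ^ f → p ≠ 3 → False) →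
      ∃ f, f ≠ 0 ∧ qOf g = 3 ^ f := by
    intro q hq hgq h
    obtain ⟨p, f, hp, hf, hpf⟩ := hq
    rw [hgq, ← hpf]
    by_cases h5 : p = 3
    · exact ⟨f, hf.ne', by rw [h5]⟩
    · exact (h p f hp.nat_prime hf.ne' hpf.symm h5).elim
  obtain ⟨hr, hc, he, ho⟩ := hg
  have ks : g ∈ spor.map (fun x => x.1) → ∃ x ∈ spor, x.1 = g ∧ Nat.card S = x.2 := by
    intro h
    obtain ⟨x, hx, rfl⟩ := List.mem_map.1 h
    exact ⟨x, hx, rfl, ho.trans (spor_ord x hx)⟩
  have hq2 : ∀ {q : ℕ}, IsPrimePow q → 2 ≤ q := fun h => h.one_lt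
  cases g with
  | alt m => exact Or.inr (Or.inl ⟨m, rfl⟩)
  | psl m q =>
    obtain ⟨F, _, _, hF, ⟨e⟩⟩ := hr
    left
    refine key q hc.2.2 rfl fun p f hp hf hqf h3 => ?_
    rcases Nat.lt_or_ge m 3 with hm | hm
    · have hm : m = 2 := by have := hc.1; omega
      subst hm
      exact H.psl_two e
    · have hFD := H407.Fam.psl hm (hq2 hc.2.2) he
      rw [hqf] at hFD
      exact smallL H.h5 H.h8 hp hf hFD hm H.hP h3 hR hRS
  | psp m q =>
    left
    refine key q hc.2.2 rfl fun p f hp hf hqf h3 => ?_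
    have hFD := H407.Fam.psp hc.1 he
    rw [hqf] at hFD
    exact smallC H.h5 H.h8 hp hf hFD hc.1 H.hP h3 hR hRS
  | psu m q =>
    left
    refine key q hc.2.2 rfl fun p f hp hf hqf h3 => ?_
    have hFD := H407.Fam.psu hc.1 he
    rw [hqf] at hFD
    exact smallU H.h5 H.h8 hp hf hFD hc.1 H.hP h3 hR hRS
  | oodd m q =>
    left
    refine key q hc.2.2 rfl fun p f hp hf hqf h3 => ?_
    have hm := hc.1
    have hFD := H407.Fam.oodd (by omega) hc.2.1 he
    rw [hqf] at hFD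
    exact smallC H.h5 H.h8 hp hf hFD (by omega) H.hP h3 hR hRS
  | oplus m q =>
    left
    refine key q hc.2 rfl fun p f hp hf hqf h3 => ?_
    have hFD := H407.Fam.oplus hc.1 he
    rw [hqf] at hFD
    exact smallD H.h5 H.h8 hp hf hFD hc.1 H.hP h3 hR hRS
  | ominus m q =>
    left
    refine key q hc.2 rfl fun p f hp hf hqf h3 => ?_
    have hFD := H407.Fam.ominus hc.1 he
    rw [hqf] at hFD
    exact smallD H.h5 H.h8 hp hf hFD hc.1 H.hP h3 hR hRS
  | g2 q => exact Or.inl (H.g2 hc he)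
  | f4 q => exact Or.inl (H.f4 hc he)
  | e6 q => exact Or.inl (H.e6 hc he)
  | e7 q => exact Or.inl (H.e7 hc he)
  | e8 q => exact Or.inl (H.e8 hc he)
  | te6 q => exact Or.inl (H.te6 hc he)
  | td4 q => exact Or.inl (H.td4 hc he)
  | sz q =>
    obtain ⟨F, _, _, m, hm, hF, hqm, e⟩ := hr
    exact (H.sz hm hqm he).elim
  | ree q =>
    obtain ⟨F, _, _, m, hm, hF, hqm, e⟩ := hr
    exact Or.inl ⟨2 * m + 1, by omega, hqm⟩
  | tf4 q =>
    obtain ⟨F, _, _, m, hm, hF, hqm, e⟩ := hr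
    exact (H.tf4 hm hqm he).elim
  | _ => exact Or.inr (Or.inr (ks (by decide)))

/-- **Cross elimination for `n = 6, 7, 8`.** -/
theorem SD.elim_ge (H : SD n S) (h6 : 6 ≤ n) {g : Grp} (hg : IsNamed g S) : ∃ f, f ≠ 0 ∧ qOf g = 3 ^ f := by
  rcases H.elim hg with h | ⟨m, rfl⟩ | ⟨x, hx, -, hS⟩
  · exact h
  · obtain ⟨e⟩ := hg.1
    exact (H.alt h6 e).elim
  · refine (H.sporB ?_).elim
    rw [hS]
    have hn : n ∈ [6, 7, 8] := by
      have := H.h8
      simp only [List.mem_cons, List.not_mem_nil, or_false]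
      omega
    exact spor_ok n hn x hx

/-- **Cross elimination for `n = 5`.** -/
theorem SD.elim_five (H : SD 5 S) {g : Grp} (hg : IsNamed g S) : (∃ f, f ≠ 0 ∧ qOf g = 3 ^ f) ∨
    (¬ 41 ∣ Nat.card S ∧ ((∃ m, 13 ≤ m ∧ m ≤ 16 ∧ Nonempty (S ≃* alternatingGroup (Fin m))) ∨
      (Spor.IsoSuz S ∧ Nat.card S = 448345497600) ∨ (Spor.IsoFi22 S ∧ Nat.card S = 64561751654400))) := by
  rcases H.elim hg with h | ⟨m, rfl⟩ | ⟨x, hx, hxg, hS⟩
  · exact Or.inl h
  · obtain ⟨e⟩ := hg.1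
    obtain ⟨h1, h2, h3⟩ := H.alt5 e
    exact Or.inr ⟨h1, Or.inl ⟨m, h2, h3, ⟨e⟩⟩⟩
  · rcases spor_ok5 x hx with h | ⟨h1, h2⟩
    · exact (H.sporB (by rw [hS]; exact h)).elim
    · subst hxg
      have hr := hg.1
      rw [hS]
      refine Or.inr ⟨fun hd => h1 (Nat.mod_eq_zero_of_dvd hd), Or.inr ?_⟩
      rcases h2 with ⟨h2, h3⟩ | ⟨h2, h3⟩
      · rw [h2] at hr
        exact Or.inl ⟨hr, h3⟩
      · rw [h2] at hr
        exact Or.inr ⟨hr, h3⟩

end main

end Cfsg.Agent.H72.D3
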