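import Cfsg.Agent.H72.D3Sm

/-!
# Cross elimination for `PΩ⁺_{2n}(3)`, `5 ≤ n ≤ 8`: the exceptional groups (helper72)

`SD n S` : the data of `S`.
-/

set_option autoImplicit false
set_option maxRecDepth 1000000

namespace Cfsg.Agent.H72.D3

open Cfsg Cfsg.Agent.OrdDiv Cfsg.Agent.H436 Cfsg.Agent.H425.Chr
open Cfsg.Agent.H407.Engine Cfsg.Agent.H407.Exc Cfsg.Agent.H407.Fam
open Cfsg.Agent.H72.DSm (pr_of exc2 inE2 of_den)
open Cfsg.Agent.H72.Five (prime_of_pchk pchk)

universe u

/-- the primes of the order of `PΩ⁺₁₆(3)` -/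
abbrev PE : List ℕ := PD 8

theorem PD_sub {n : ℕ} (h5 : 5 ≤ n) (h8 : n ≤ 8) {r : ℕ} (h : r ∈ PD n) : r ∈ PE := by
  have h1 : ∀ n ∈ [5, 6, 7, 8], ∀ r ∈ PD n, r ∈ PE := by decide +kernel
  exact h1 n (by simp only [List.mem_cons, List.not_mem_nil, or_false]; omega) r h

theorem chkG2 : chk PE (QD 8) LG2 [17, 19, 31, 37, 43, 79, 97, 157, 181, 1723]
    [(2, 1), (2, 2), (1093, 1)] (inE2 LG2) = true := by decide +kernel
theorem chkF4 : chk PE (QD 8) LF4 [17, 29, 31, 37, 181] [] (inE2 LF4) = true := by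
  decide +kernel
theorem chkE6 : chk PE (QD 8) LE6 [17, 19, 31, 137] [] (inE2 LE6) = true := by decide +kernel
theorem chkE7 : chk PE (QD 8) LE7 [19] [] (inE2 LE7) = true := by decide +kernel
theorem chkE8 : chk PE (QD 8) LE8 [19] [] (inE2 LE8) = true := by decide +kernel
theorem chkTE6 : chk PE (QD 8) LTE6 [17, 19, 31, 37] [] (inE2 LTE6) = true := by
  decide +kernel
theorem chkTD4 : chk PE (QD 8) LTD4 [31, 37, 109, 157, 181, 241] [(2, 1)]
    (inE2 LTD4) = true := by decide +kernel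
theorem chkTF4 : chk PE [2] LTF4 [17, 19, 31] [(2, 1)] (inE2 LTF4) = true := by decide +kernel

/-- the labels of the Suzuki groups -/
def inSz (_ _ e : ℕ) : Bool := Nat.beq e 1 || Nat.beq e 4

theorem chkSz : chk PE [2] LSz [17, 29, 31, 37, 53] [(2, 1), (2, 3)] inSz = true := by decide +kernel

section main

variable {n : ℕ} {S : Type u} [Group S] {q : ℕ}

/-- the data of `S` for small `n` -/
structure SD (n : ℕ) (S : Type u) [Group S] : Prop where
  h5 : 5 ≤ n
  h8 : n ≤ 8
  hP : ∀ r, r.Prime → r ∣ Nat.card S → r ∈ PD n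
  hT : ∀ r ∈ TL n, ∀ s ∈ TL n, ¬ r ∣ Nat.card S → ¬ s ∣ Nat.card S → r = s
  nadj : ∀ r ∈ TL n, ∀ s ∈ TL n, r ≠ s → ¬ ∃ x : S, orderOf x = r * s

theorem SD.exists_R (H : SD n S) : ∃ R ∈ RL n, ∀ r ∈ R, r ∣ Nat.card S := by
  obtain ⟨h5, h8, -, hT, -⟩ := H
  interval_cases n
  · by_cases h1 : 11 ∣ Nat.card S
    · by_cases h2 : 13 ∣ Nat.card S
      · exact ⟨[11, 13], by decide, by simp [h1, h2]⟩
      · have h3 : 7 ∣ Nat.card S := by
          by_contra h3
          exact absurd (hT 13 (by decide) 7 (by decide) h2 h3) (by decide)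
        have h4 : 41 ∣ Nat.card S := by
          by_contra h4
          exact absurd (hT 13 (by decide) 41 (by decide) h2 h4) (by decide)
        exact ⟨[7, 41, 11], by decide, by simp [h1, h3, h4]⟩
    · have h2 : 13 ∣ Nat.card S := by
        by_contra h3
        exact absurd (hT 11 (by decide) 13 (by decide) h1 h3) (by decide)
      have h3 : 7 ∣ Nat.card S := by
        by_contra h3
        exact absurd (hT 11 (by decide) 7 (by decide) h1 h3) (by decide)
      have h4 : 41 ∣ Nat.card S := by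
        by_contra h4
        exact absurd (hT 11 (by decide) 41 (by decide) h1 h4) (by decide)
      exact ⟨[7, 41, 13], by decide, by simp [h2, h3, h4]⟩
  · by_cases h1 : 41 ∣ Nat.card S ∧ 61 ∣ Nat.card S
    · exact ⟨[41, 61], by decide, by simp [h1.1, h1.2]⟩
    · obtain ⟨x, hx, hxS⟩ : ∃ x ∈ [41, 61], ¬ x ∣ Nat.card S := by
        by_cases h2 : 41 ∣ Nat.card S
        · exact ⟨61, by decide, fun h3 => h1 ⟨h2, h3⟩⟩
        · exact ⟨41, by decide, h2⟩
      have hx' : x ∈ TL 6 ∧ x ≠ 11 ∧ x ≠ 13 := by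
        simp only [List.mem_cons, List.not_mem_nil, or_false] at hx
        rcases hx with rfl | rfl <;> decide
      refine ⟨[11, 13], by decide, ?_⟩
      intro r hr
      by_contra h2
      have h3 := hT x hx'.1 r (by
        simp only [List.mem_cons, List.not_mem_nil, or_false] at hr
        rcases hr with rfl | rfl <;> decide) hxS h2
      simp only [List.mem_cons, List.not_mem_nil, or_false] at hr
      rcases hr with rfl | rfl
      · exact hx'.2.1 h3
      · exact hx'.2.2 h3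
  all_goals
    by_cases h1 : 61 ∣ Nat.card S
    · by_cases h2 : 73 ∣ Nat.card S
      · exact ⟨[61, 73], by decide, by simp [h1, h2]⟩
      · have h3 : 1093 ∣ Nat.card S := by
          by_contra h3
          exact absurd (hT 73 (by decide) 1093 (by decide) h2 h3) (by decide)
        exact ⟨[61, 1093], by decide, by simp [h1, h3]⟩
    · have h2 : 73 ∣ Nat.card S := by
        by_contra h3
        exact absurd (hT 61 (by decide) 73 (by decide) h1 h3) (by decide)
      have h3 : 1093 ∣ Nat.card S := by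
        by_contra h3
        exact absurd (hT 61 (by decide) 1093 (by decide) h1 h3) (by decide)
      exact ⟨[73, 1093], by decide, by simp [h2, h3]⟩

theorem SD.mem_Q (H : SD n S) {p : ℕ} (hp : p.Prime) (hd : p ∣ Nat.card S) (h3 : p ≠ 3) : p ∈ QD 8 :=
  mem_QD h3 (PD_sub H.h5 H.h8 (H.hP p hp hd))

theorem SD.not_of (H : SD n S) {g : Grp} (he : den g * Nat.card S = num g)
    (h : ((([5, 6, 7, 8].flatMap RL)).all fun R => R.any fun r => !(Nat.beq (num g % r) 0)) = true) : False := by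
  obtain ⟨R, hR, hRS⟩ := H.exists_R
  have hn : n ∈ [5, 6, 7, 8] := by
    have := H.h5
    have := H.h8
    simp only [List.mem_cons, List.not_mem_nil, or_false]
    omega
  have h1 := List.all_eq_true.1 h R (List.mem_flatMap.2 ⟨n, hn, hR⟩)
  rw [List.any_eq_true] at h1
  obtain ⟨r, hr, hrn⟩ := h1
  have h2 : r ∣ num g := he ▸ (hRS r hr).mul_left _
  rw [Nat.mod_eq_zero_of_dvd h2] at hrn
  exact absurd hrn (by decide)

/-- the common form -/
theorem SD.exc {L X : List ℕ} {E : List (ℕ × ℕ)} (H : SD n S) (hchk : chk PE (QD 8) L X E (inE2 L) = true)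
    (hL : (L.all fun e => decide (3 ≤ e)) = true) (hLn : L.Nodup)
    (hX : pchk X = true) (hX3 : (X.all fun x => decide (3 < x)) = true) (hq : IsPrimePow q)
    (hqS : ∀ x : ℕ, x.Prime → x ∣ q → x ∣ Nat.card S) (hFD : Inc (Nat.card S) q L)
    (hN2 : ∀ x : ℕ, x.Prime → 3 < x → x ∣ q ^ 2 - 1 → x ∣ Nat.card S)
    (hE : ∀ x ∈ E, q = x.1 ^ x.2 → False) : ∃ f, f ≠ 0 ∧ q = 3 ^ f := by
  obtain ⟨p, f, hp, hf, rfl⟩ := hq
  have hp := hp.nat_prime
  by_cases h5 : p = 3
  · exact ⟨f, hf.ne', by rw [h5]⟩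
  · exfalso
    have hpS := hqS p hp (dvd_pow_self p hf.ne')
    have h1 := exc2 hchk hL hLn hX hX3 hp hf.ne' hFD hN2 (fun r hr hd => PD_sub H.h5 H.h8 (H.hP r hr hd))
      (H.mem_Q hp hpS h5)
    exact hE _ h1 rfl

theorem SD.g2 (H : SD n S) (hc : Cond (.g2 q)) (he : den (.g2 q) * Nat.card S = num (.g2 q)) :
    ∃ f, f ≠ 0 ∧ q = 3 ^ f := by
  have h1 : 1 * Nat.card S = q ^ 6 * ((q ^ 2 - 1) * (q ^ 6 - 1)) := he
  rw [one_mul] at h1
  refine H.exc chkG2 (by decide) (by decide) (by decide +kernel) (by decide +kernel) hc.2 ?_ (H407.Exc.g2 he) ?_ ?_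
  · intro x hx hd
    rw [h1]
    exact (hd.trans (dvd_pow_self _ (by norm_num))).mul_right _
  · intro x hx h3 hd
    rw [h1]
    exact (hd.mul_right _).mul_left _
  · intro x hx hq
    simp only [List.mem_cons, List.not_mem_nil, or_false] at hx
    rcases hx with rfl | rfl | rfl
    · have := hc.1
      rw [hq] at this
      exact absurd this (by norm_num)
    · rw [show q = 4 by rw [hq]; norm_num] at he
      exact H.not_of he (by decide +kernel)
    · rw [show q = 1093 by rw [hq]; norm_num] at he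
      exact H.not_of he (by decide +kernel)

theorem SD.f4 (H : SD n S) (hc : Cond (.f4 q)) (he : den (.f4 q) * Nat.card S = num (.f4 q)) :
    ∃ f, f ≠ 0 ∧ q = 3 ^ f := by
  have h1 : 1 * Nat.card S = q ^ 24 * ((q ^ 2 - 1) * (q ^ 6 - 1) * (q ^ 8 - 1) * (q ^ 12 - 1)) := he
  rw [one_mul] at h1
  refine H.exc chkF4 (by decide) (by decide) (by decide +kernel) (by decide +kernel) hc ?_ (H407.Exc.f4 he) ?_ ?_
  · intro x hx hd
    rw [h1]
    exact (hd.trans (dvd_pow_self _ (by norm_num))).mul_right _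
  · intro x hx h3 hd
    rw [h1]
    exact (((hd.mul_right _).mul_right _).mul_right _).mul_left _
  · intro x hx
    exact absurd hx List.not_mem_nil

theorem SD.e6 (H : SD n S) (hc : Cond (.e6 q)) (he : den (.e6 q) * Nat.card S = num (.e6 q)) :
    ∃ f, f ≠ 0 ∧ q = 3 ^ f := by
  have h1 : Nat.gcd 3 (q - 1) * Nat.card S = q ^ 36 * ((q ^ 2 - 1) * (q ^ 5 - 1) * (q ^ 6 - 1) * (q ^ 8 - 1) *
    (q ^ 9 - 1) * (q ^ 12 - 1)) := he
  have hq2 : ∀ x : ℕ, x.Prime → 3 < x → x ∣ q ^ 2 - 1 → x ∣ Nat.card S := by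
    intro x hx h3 hd
    exact of_den hx h3 h1 (Or.inr rfl) ((((((hd.mul_right _).mul_right _).mul_right _).mul_right _).mul_right _).mul_left _)
  refine H.exc chkE6 (by decide) (by decide) (by decide +kernel) (by decide +kernel) hc ?_ (H407.Exc.e6 he) hq2 ?_
  · intro x hx hd
    have h0 : x ∣ Nat.gcd 3 (q - 1) * Nat.card S := by
      rw [h1]
      exact (hd.trans (dvd_pow_self _ (by norm_num))).mul_right _
    refine (hx.dvd_mul.1 h0).resolve_left fun h => ?_
    have h2 := h.trans (Nat.gcd_dvd_right _ _)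
    have h3 := (Nat.dvd_sub hd h2)
    have hq1 : 1 ≤ q := hc.one_lt.le
    rw [Nat.sub_sub_self hq1] at h3
    exact hx.one_lt.ne' (Nat.dvd_one.1 h3)
  · intro x hx
    exact absurd hx List.not_mem_nil

theorem SD.e7 (H : SD n S) (hc : Cond (.e7 q)) (he : den (.e7 q) * Nat.card S = num (.e7 q)) :
    ∃ f, f ≠ 0 ∧ q = 3 ^ f := by
  have h1 : Nat.gcd 2 (q - 1) * Nat.card S = q ^ 63 * ((q ^ 2 - 1) * (q ^ 6 - 1) * (q ^ 8 - 1) * (q ^ 10 - 1) *
    (q ^ 12 - 1) * (q ^ 14 - 1) * (q ^ 18 - 1)) := he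
  have hq2 : ∀ x : ℕ, x.Prime → 3 < x → x ∣ q ^ 2 - 1 → x ∣ Nat.card S := by
    intro x hx h3 hd
    exact of_den hx h3 h1 (Or.inl rfl)
      (((((((hd.mul_right _).mul_right _).mul_right _).mul_right _).mul_right _).mul_right _).mul_left _)
  refine H.exc chkE7 (by decide) (by decide) (by decide +kernel) (by decide +kernel) hc ?_ (H407.Exc.e7 he) hq2 ?_
  · intro x hx hd
    have h0 : x ∣ Nat.gcd 2 (q - 1) * Nat.card S := by
      rw [h1]
      exact (hd.trans (dvd_pow_self _ (by norm_num))).mul_right _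
    refine (hx.dvd_mul.1 h0).resolve_left fun h => ?_
    have h2 := h.trans (Nat.gcd_dvd_right _ _)
    have h3 := (Nat.dvd_sub hd h2)
    have hq1 : 1 ≤ q := hc.one_lt.le
    rw [Nat.sub_sub_self hq1] at h3
    exact hx.one_lt.ne' (Nat.dvd_one.1 h3)
  · intro x hx
    exact absurd hx List.not_mem_nil

theorem SD.e8 (H : SD n S) (hc : Cond (.e8 q)) (he : den (.e8 q) * Nat.card S = num (.e8 q)) :
    ∃ f, f ≠ 0 ∧ q = 3 ^ f := by
  have h1 : 1 * Nat.card S = q ^ 120 * ((q ^ 2 - 1) * (q ^ 8 - 1) * (q ^ 12 - 1) * (q ^ 14 - 1) * (q ^ 18 - 1) *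
    (q ^ 20 - 1) * (q ^ 24 - 1) * (q ^ 30 - 1)) := he
  rw [one_mul] at h1
  refine H.exc chkE8 (by decide) (by decide) (by decide +kernel) (by decide +kernel) hc ?_ (H407.Exc.e8 he) ?_ ?_
  · intro x hx hd
    rw [h1]
    exact (hd.trans (dvd_pow_self _ (by norm_num))).mul_right _
  · intro x hx h3 hd
    rw [h1]
    exact (((((((hd.mul_right _).mul_right _).mul_right _).mul_right _).mul_right _).mul_right _).mul_right _).mul_left _
  · intro x hx
    exact absurd hx List.not_mem_nil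

theorem SD.te6 (H : SD n S) (hc : Cond (.te6 q)) (he : den (.te6 q) * Nat.card S = num (.te6 q)) :
    ∃ f, f ≠ 0 ∧ q = 3 ^ f := by
  have h1 : Nat.gcd 3 (q + 1) * Nat.card S = q ^ 36 * ((q ^ 2 - 1) * (q ^ 5 + 1) * (q ^ 6 - 1) * (q ^ 8 - 1) *
    (q ^ 9 + 1) * (q ^ 12 - 1)) := he
  have hq2 : ∀ x : ℕ, x.Prime → 3 < x → x ∣ q ^ 2 - 1 → x ∣ Nat.card S := by
    intro x hx h3 hd
    exact of_den hx h3 h1 (Or.inr rfl) ((((((hd.mul_right _).mul_right _).mul_right _).mul_right _).mul_right _).mul_left _)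
  refine H.exc chkTE6 (by decide) (by decide) (by decide +kernel) (by decide +kernel) hc ?_ (H407.Exc.te6 he) hq2 ?_
  · intro x hx hd
    have h0 : x ∣ Nat.gcd 3 (q + 1) * Nat.card S := by
      rw [h1]
      exact (hd.trans (dvd_pow_self _ (by norm_num))).mul_right _
    refine (hx.dvd_mul.1 h0).resolve_left fun h => ?_
    have h2 := h.trans (Nat.gcd_dvd_right _ _)
    have h3 := (Nat.dvd_sub h2 hd)
    rw [Nat.add_sub_cancel_left] at h3
    exact hx.one_lt.ne' (Nat.dvd_one.1 h3)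
  · intro x hx
    exact absurd hx List.not_mem_nil

theorem SD.td4 (H : SD n S) (hc : Cond (.td4 q)) (he : den (.td4 q) * Nat.card S = num (.td4 q)) :
    ∃ f, f ≠ 0 ∧ q = 3 ^ f := by
  have h1 : 1 * Nat.card S = q ^ 12 * ((q ^ 2 - 1) * (q ^ 6 - 1) * (q ^ 8 + q ^ 4 + 1)) := he
  rw [one_mul] at h1
  refine H.exc chkTD4 (by decide) (by decide) (by decide +kernel) (by decide +kernel) hc ?_
    (H407.Exc.td4 hc.one_lt he) ?_ ?_
  · intro x hx hd
    rw [h1]
    exact (hd.trans (dvd_pow_self _ (by norm_num))).mul_right _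
  · intro x hx h3 hd
    rw [h1]
    exact ((hd.mul_right _).mul_right _).mul_left _
  · intro x hx hq
    simp only [List.mem_cons, List.not_mem_nil, or_false] at hx
    subst hx
    rw [show q = 2 by rw [hq]; norm_num] at he
    exact H.not_of he (by decide +kernel)

theorem SD.tf4 (H : SD n S) {m : ℕ} (hm : 1 ≤ m) (hq : q = 2 ^ (2 * m + 1))
    (he : den (.tf4 q) * Nat.card S = num (.tf4 q)) : False := by
  have h1 : 1 * Nat.card S = q ^ 12 * ((q - 1) * (q ^ 3 + 1) * (q ^ 4 - 1) * (q ^ 6 + 1)) := he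
  rw [one_mul] at h1
  have hFD := H407.Exc.tf4 he
  rw [hq] at hFD
  have h2 := exc2 chkTF4 (by decide) (by decide) (by decide +kernel) (by decide +kernel) Nat.prime_two
    (f := 2 * m + 1) (by omega) hFD (by
      intro x hx h3 hd
      rw [← hq] at hd
      have h4 : x ∣ q ^ 4 - 1 := hd.trans (by
        rw [show (4 : ℕ) = 2 * 2 by norm_num, pow_mul]
        exact Nat.sub_one_dvd_pow_sub_one _ _)
      rw [h1]
      exact ((h4.mul_left _).mul_right _).mul_left _) (fun r hr hd => PD_sub H.h5 H.h8 (H.hP r hr hd))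
    (List.mem_singleton.2 rfl)
  simp only [List.mem_cons, List.not_mem_nil, or_false, Prod.mk.injEq] at h2
  omega

theorem SD.sz (H : SD n S) {m : ℕ} (hm : 1 ≤ m) (hq : q = 2 ^ (2 * m + 1))
    (he : den (.sz q) * Nat.card S = num (.sz q)) : False := by
  have h1 : 1 * Nat.card S = q ^ 2 * ((q - 1) * (q ^ 2 + 1)) := he
  have hFD := DSm.sz_inc he
  rw [hq] at hFD
  have h2 := main chkSz (fun e he => by
      simp only [LSz, List.mem_cons, List.not_mem_nil, or_false] at he
      omega) (by decide) (pr_of (by decide +kernel)) Nat.prime_two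
    (f := 2 * m + 1) (N := Nat.card S) (by omega) (List.mem_singleton.2 rfl) (fun e he r hr => hFD e he r hr)
    (fun r hr hd => PD_sub H.h5 H.h8 (H.hP r hr hd)) (by
      intro e x he hB hx hpr
      unfold inSz at hB
      rw [Bool.or_eq_true, Nat.beq_eq, Nat.beq_eq] at hB
      rcases hB with rfl | rfl
      · have h3 : x ∣ q - 1 := by
          have := hpr.dvd (m := 1) dvd_rfl
          rwa [pow_one, ← hq] at this
        rw [one_mul] at h1
        rw [h1]
        exact (h3.mul_right _).mul_left _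
      · exact hFD 4 (by decide) x hpr)
  simp only [List.mem_cons, List.not_mem_nil, or_false, Prod.mk.injEq] at h2
  have hm1 : m = 1 := by omega
  rw [show q = 8 by rw [hq, hm1]; norm_num] at he
  exact H.not_of he (by decide +kernel)

end main

end Cfsg.Agent.H72.D3
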