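import Cfsg.Agent.H72.DFiveEs

/-!
# Cross elimination for `PΩ⁺_{2n}(3)`, `5 ≤ n ≤ 8`: the finite checks (helper72)

With helper407's engine. `PD n` : the primes of the order of `PΩ⁺_{2n}(3)`, `TL n` : a coclique, `RL n` : a list of sets of
primes one of which divides the order of `S`.
-/

set_option autoImplicit false
set_option maxRecDepth 1000000

namespace Cfsg.Agent.H72.D3

open Cfsg Cfsg.Agent.OrdDiv Cfsg.Agent.H436 Cfsg.Agent.H425.Chr
open Cfsg.Agent.H407.Engine Cfsg.Agent.H407.Exc Cfsg.Agent.H407.Fam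
open Cfsg.Agent.H72.DSm (pr_of exc2 inE2 of_den)
open Cfsg.Agent.H72.Five (prime_of_pchk pchk)

universe u

/-- the primes of the order of `PΩ⁺_{2n}(3)` -/
def PD : ℕ → List ℕ
  | 5 => [3, 2, 5, 7, 11, 13, 41]
  | 6 => [3, 2, 5, 7, 11, 13, 41, 61]
  | 7 => [3, 2, 5, 7, 11, 13, 41, 61, 73, 1093]
  | 8 => [3, 2, 5, 7, 11, 13, 41, 61, 73, 547, 1093]
  | _ => []

/-- a coclique of `PΩ⁺_{2n}(3)` -/
def TL : ℕ → List ℕ
  | 5 => [7, 11, 13, 41]
  | 6 => [11, 13, 41, 61]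
  | 7 => [11, 41, 61, 73, 1093]
  | 8 => [11, 61, 73, 547, 1093]
  | _ => []

/-- the primes of one of these lists divide the order of `S` -/
def RL : ℕ → List (List ℕ)
  | 5 => [[11, 13], [7, 41, 11], [7, 41, 13]]
  | 6 => [[41, 61], [11, 13]]
  | 7 => [[61, 73], [61, 1093], [73, 1093]]
  | 8 => [[61, 73], [61, 1093], [73, 1093]]
  | _ => []

/-- the characteristics -/
def QD (n : ℕ) : List ℕ := (PD n).filter fun p => p != 3

theorem mem_QD {n p : ℕ} (h5 : p ≠ 3) (h : p ∈ PD n) : p ∈ QD n := by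
  unfold QD
  rw [List.mem_filter]
  exact ⟨h, by simpa using h5⟩

theorem prime_PD {n r : ℕ} (h5 : 5 ≤ n) (h8 : n ≤ 8) (h : r ∈ PD n) : r.Prime := by
  have h1 : ∀ n ∈ [5, 6, 7, 8], ∀ r ∈ PD n, r ∈ [3, 2, 5, 7, 11, 13, 41, 61, 73, 547, 1093] := by decide
  exact prime_of_pchk (l := [3, 2, 5, 7, 11, 13, 41, 61, 73, 547, 1093]) (by decide +kernel)
    (h1 n (by simp only [List.mem_cons, List.not_mem_nil, or_false]; omega) r h)

theorem RL_spec {n r : ℕ} (h5 : 5 ≤ n) (h8 : n ≤ 8) {C : List ℕ} (hC : C ∈ RL n) (h : r ∈ C) :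
    r.Prime ∧ r ≠ 2 := by
  have h1 : ∀ n ∈ [5, 6, 7, 8], ∀ C ∈ RL n, ∀ r ∈ C, r ∈ PD n ∧ r ≠ 2 := by decide
  obtain ⟨h2, h3⟩ := h1 n (by simp only [List.mem_cons, List.not_mem_nil, or_false]; omega) C hC r h
  exact ⟨prime_PD h5 h8 h2, h3⟩

/-! ### the classical groups -/

/-- all checks -/
def chkA (n : ℕ) (L X : List ℕ) (wt : ℕ → ℕ) (m0 c : ℕ) : Bool :=
  (RL n).all fun R => chk (PD n) (QD n) L X [] (inB wt m0 c R)

theorem of_chkA {n : ℕ} {L X : List ℕ} {wt : ℕ → ℕ} {m0 c : ℕ} (h : chkA n L X wt m0 c = true) {R : List ℕ}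
    (hR : R ∈ RL n) : chk (PD n) (QD n) L X [] (inB wt m0 c R) = true := List.all_eq_true.1 h R hR

section cls

variable {n N p f m : ℕ}

theorem chkL5 : chkA 5 [3] [17, 19, 29, 31, 61] wtL 3 0 = true := by decide +kernel
theorem chkL6 : chkA 6 [3] [19, 29, 31, 2411] wtL 3 0 = true := by decide +kernel
theorem chkL7 : chkA 7 [3] [19, 31, 37, 53] wtL 3 0 = true := by decide +kernel
theorem chkL8 : chkA 8 [3] [19, 31, 37, 53] wtL 3 0 = true := by decide +kernel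

theorem smallL (h5 : 5 ≤ n) (h8 : n ≤ 8) (hp : p.Prime) (hf : f ≠ 0) (hFD : FD N (p ^ f) wtL m 0)
    (hm : 3 ≤ m) (hP : ∀ r, r.Prime → r ∣ N → r ∈ PD n) (h3 : p ≠ 3) {R : List ℕ} (hR : R ∈ RL n)
    (hRS : ∀ r ∈ R, r ∣ N) : False := by
  have hRS' : ∀ r ∈ R, r.Prime ∧ r ≠ 2 ∧ r ∣ N := fun r hr =>
    ⟨(RL_spec h5 h8 hR hr).1, (RL_spec h5 h8 hR hr).2, hRS r hr⟩
  interval_cases n
  · exact cl wtL_lt (of_chkA chkL5 hR) (by decide) (by decide) (pr_of (by decide +kernel)) hp hf hFD hm hP (mem_QD h3) hRS'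
  · exact cl wtL_lt (of_chkA chkL6 hR) (by decide) (by decide) (pr_of (by decide +kernel)) hp hf hFD hm hP (mem_QD h3) hRS'
  · exact cl wtL_lt (of_chkA chkL7 hR) (by decide) (by decide) (pr_of (by decide +kernel)) hp hf hFD hm hP (mem_QD h3) hRS'
  · exact cl wtL_lt (of_chkA chkL8 hR) (by decide) (by decide) (pr_of (by decide +kernel)) hp hf hFD hm hP (mem_QD h3) hRS'

theorem chkU5 : chkA 5 [6] [17, 19, 29, 31, 61] wtU 3 0 = true := by decide +kernel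
theorem chkU6 : chkA 6 [6] [17, 31, 71, 181, 1117, 4111] wtU 3 0 = true := by decide +kernel
theorem chkU7 : chkA 7 [6] [17, 19, 31, 37, 53] wtU 3 0 = true := by decide +kernel
theorem chkU8 : chkA 8 [6] [17, 19, 29, 31, 37, 53] wtU 3 0 = true := by decide +kernel

theorem smallU (h5 : 5 ≤ n) (h8 : n ≤ 8) (hp : p.Prime) (hf : f ≠ 0) (hFD : FD N (p ^ f) wtU m 0)
    (hm : 3 ≤ m) (hP : ∀ r, r.Prime → r ∣ N → r ∈ PD n) (h3 : p ≠ 3) {R : List ℕ} (hR : R ∈ RL n)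
    (hRS : ∀ r ∈ R, r ∣ N) : False := by
  have hRS' : ∀ r ∈ R, r.Prime ∧ r ≠ 2 ∧ r ∣ N := fun r hr =>
    ⟨(RL_spec h5 h8 hR hr).1, (RL_spec h5 h8 hR hr).2, hRS r hr⟩
  interval_cases n
  · exact cl wtU_lt (of_chkA chkU5 hR) (by decide) (by decide) (pr_of (by decide +kernel)) hp hf hFD hm hP (mem_QD h3) hRS'
  · exact cl wtU_lt (of_chkA chkU6 hR) (by decide) (by decide) (pr_of (by decide +kernel)) hp hf hFD hm hP (mem_QD h3) hRS'
  · exact cl wtU_lt (of_chkA chkU7 hR) (by decide) (by decide) (pr_of (by decide +kernel)) hp hf hFD hm hP (mem_QD h3) hRS'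
  · exact cl wtU_lt (of_chkA chkU8 hR) (by decide) (by decide) (pr_of (by decide +kernel)) hp hf hFD hm hP (mem_QD h3) hRS'

theorem chkC5 : chkA 5 [4] [17, 29, 31, 61, 71, 191] wtS 2 0 = true := by decide +kernel
theorem chkC6 : chkA 6 [4] [17, 19, 29, 31, 71, 3221] wtS 2 0 = true := by decide +kernel
theorem chkC7 : chkA 7 [4] [19, 31, 53] wtS 2 0 = true := by decide +kernel
theorem chkC8 : chkA 8 [4] [19, 31, 53] wtS 2 0 = true := by decide +kernel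

theorem smallC (h5 : 5 ≤ n) (h8 : n ≤ 8) (hp : p.Prime) (hf : f ≠ 0) (hFD : FD N (p ^ f) wtS m 0)
    (hm : 2 ≤ m) (hP : ∀ r, r.Prime → r ∣ N → r ∈ PD n) (h3 : p ≠ 3) {R : List ℕ} (hR : R ∈ RL n)
    (hRS : ∀ r ∈ R, r ∣ N) : False := by
  have hRS' : ∀ r ∈ R, r.Prime ∧ r ≠ 2 ∧ r ∣ N := fun r hr =>
    ⟨(RL_spec h5 h8 hR hr).1, (RL_spec h5 h8 hR hr).2, hRS r hr⟩
  interval_cases n
  · exact cl wtS_lt (of_chkA chkC5 hR) (by decide) (by decide) (pr_of (by decide +kernel)) hp hf hFD hm hP (mem_QD h3) hRS'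
  · exact cl wtS_lt (of_chkA chkC6 hR) (by decide) (by decide) (pr_of (by decide +kernel)) hp hf hFD hm hP (mem_QD h3) hRS'
  · exact cl wtS_lt (of_chkA chkC7 hR) (by decide) (by decide) (pr_of (by decide +kernel)) hp hf hFD hm hP (mem_QD h3) hRS'
  · exact cl wtS_lt (of_chkA chkC8 hR) (by decide) (by decide) (pr_of (by decide +kernel)) hp hf hFD hm hP (mem_QD h3) hRS'

theorem chkD5 : chkA 5 [3, 4, 6] [17, 19, 29, 31] wtS 4 1 = true := by decide +kernel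
theorem chkD6 : chkA 6 [3, 4, 6] [17, 19, 29, 31] wtS 4 1 = true := by decide +kernel
theorem chkD7 : chkA 7 [3, 4, 6] [17, 19, 31] wtS 4 1 = true := by decide +kernel
theorem chkD8 : chkA 8 [3, 4, 6] [17, 19, 31] wtS 4 1 = true := by decide +kernel

theorem smallD (h5 : 5 ≤ n) (h8 : n ≤ 8) (hp : p.Prime) (hf : f ≠ 0) (hFD : FD N (p ^ f) wtS m 1)
    (hm : 4 ≤ m) (hP : ∀ r, r.Prime → r ∣ N → r ∈ PD n) (h3 : p ≠ 3) {R : List ℕ} (hR : R ∈ RL n)
    (hRS : ∀ r ∈ R, r ∣ N) : False := by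
  have hRS' : ∀ r ∈ R, r.Prime ∧ r ≠ 2 ∧ r ∣ N := fun r hr =>
    ⟨(RL_spec h5 h8 hR hr).1, (RL_spec h5 h8 hR hr).2, hRS r hr⟩
  interval_cases n
  · exact cl wtS_lt (of_chkA chkD5 hR) (by decide) (by decide) (pr_of (by decide +kernel)) hp hf hFD hm hP (mem_QD h3) hRS'
  · exact cl wtS_lt (of_chkA chkD6 hR) (by decide) (by decide) (pr_of (by decide +kernel)) hp hf hFD hm hP (mem_QD h3) hRS'
  · exact cl wtS_lt (of_chkA chkD7 hR) (by decide) (by decide) (pr_of (by decide +kernel)) hp hf hFD hm hP (mem_QD h3) hRS'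
  · exact cl wtS_lt (of_chkA chkD8 hR) (by decide) (by decide) (pr_of (by decide +kernel)) hp hf hFD hm hP (mem_QD h3) hRS'

end cls

end Cfsg.Agent.H72.D3
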